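import Cfsg.Agent.Lib.Helper80.EV
import Cfsg.Agent.Lib.Helper4.CharDecomp

/-!
Galois conjugation of irreducible characters: for `k` coprime to `|G|`, the function
`g ↦ χ (g ^ k)` is again an irreducible character.  The proof extends the automorphism
`ζ ↦ ζ ^ k` of a cyclotomic field to a ring automorphism of `ℂ` (via a transcendence basis),
and twists a matrix representation entrywise.
-/

set_option autoImplicit false

namespace Cfsg.Agent.Lib.Helper80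

open Cfsg Cfsg.Agent.Lib.Helper4
open scoped ComplexConjugate

open IntermediateField Polynomial in
/-- For `k` coprime to `n` and `ζ` a primitive `n`-th root of unity there is a ring automorphism
of `ℂ` with `ζ ↦ ζ ^ k`. -/
theorem exists_ringEquiv_pow (n k : ℕ) (hn : 0 < n) (hk : Nat.Coprime k n) (ζ : ℂ)
    (hζ : IsPrimitiveRoot ζ n) : ∃ τ : ℂ ≃+* ℂ, τ ζ = ζ ^ k := by
  have : NeZero n := ⟨hn.ne'⟩
  have hint : IsIntegral ℚ ζ := (hζ.isIntegral hn).tower_top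
  let pb := IntermediateField.adjoin.powerBasis hint
  have hgen : ((AdjoinSimple.gen ℚ ζ : ℚ⟮ζ⟯) : ℂ) = ζ := AdjoinSimple.coe_gen ℚ ζ
  have hgenprim : IsPrimitiveRoot (AdjoinSimple.gen ℚ ζ) n := by
    have h1 := hζ
    rw [← hgen] at h1
    exact IsPrimitiveRoot.of_map_of_injective (f := algebraMap ℚ⟮ζ⟯ ℂ) h1
      (algebraMap ℚ⟮ζ⟯ ℂ).injective
  have hy : Polynomial.aeval ((AdjoinSimple.gen ℚ ζ) ^ k) (minpoly ℚ pb.gen) = 0 := by
    have h3 : minpoly ℚ pb.gen = minpoly ℚ ζ := by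
      rw [IntermediateField.adjoin.powerBasis_gen]
      exact IntermediateField.minpoly_gen (F := ℚ) ζ
    rw [h3, ← Polynomial.cyclotomic_eq_minpoly_rat hζ hn]
    have hprim := hgenprim.pow_of_coprime k hk
    have h2 := hprim.isRoot_cyclotomic hn
    rw [Polynomial.aeval_def, ← Polynomial.eval_map, Polynomial.map_cyclotomic]
    exact h2
  let φ : ℚ⟮ζ⟯ →ₐ[ℚ] ℚ⟮ζ⟯ := pb.lift ((AdjoinSimple.gen ℚ ζ) ^ k) hy
  have hφ : φ (AdjoinSimple.gen ℚ ζ) = (AdjoinSimple.gen ℚ ζ) ^ k := by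
    have h4 := pb.lift_gen ((AdjoinSimple.gen ℚ ζ) ^ k) hy
    rwa [IntermediateField.adjoin.powerBasis_gen] at h4
  have : FiniteDimensional ℚ ℚ⟮ζ⟯ := IntermediateField.adjoin.finiteDimensional hint
  have hbij : Function.Bijective φ := Algebra.IsAlgebraic.algHom_bijective φ
  let σ : ℚ⟮ζ⟯ ≃+* ℚ⟮ζ⟯ := RingEquiv.ofBijective (φ : ℚ⟮ζ⟯ →+* ℚ⟮ζ⟯) hbij
  have hσ : σ (AdjoinSimple.gen ℚ ζ) = (AdjoinSimple.gen ℚ ζ) ^ k := hφ
  obtain ⟨s, hs⟩ := exists_isTranscendenceBasis ℚ⟮ζ⟯ (A := ℂ)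
  have hcl := IsAlgClosed.isAlgClosure_of_transcendence_basis _ hs
  let e : Algebra.adjoin ℚ⟮ζ⟯ (Set.range ((↑) : s → ℂ)) ≃+*
      Algebra.adjoin ℚ⟮ζ⟯ (Set.range ((↑) : s → ℂ)) :=
    hs.1.aevalEquiv.symm.toRingEquiv.trans
      ((MvPolynomial.mapEquiv s σ).trans hs.1.aevalEquiv.toRingEquiv)
  have he : ∀ a : ℚ⟮ζ⟯, e (algebraMap ℚ⟮ζ⟯ _ a) = algebraMap ℚ⟮ζ⟯ _ (σ a) := by
    intro a
    simp only [e, RingEquiv.trans_apply, AlgEquiv.coe_ringEquiv,
      AlgEquiv.commutes, MvPolynomial.mapEquiv_apply, MvPolynomial.algebraMap_eq,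
      MvPolynomial.map_C]
    exact AlgEquiv.commutes hs.1.aevalEquiv (σ a)
  let τ := IsAlgClosure.equivOfEquiv ℂ ℂ e
  refine ⟨τ, ?_⟩
  have h1 : ζ = algebraMap (Algebra.adjoin ℚ⟮ζ⟯ (Set.range ((↑) : s → ℂ))) ℂ
      (algebraMap ℚ⟮ζ⟯ _ (AdjoinSimple.gen ℚ ζ)) := by
    rw [← IsScalarTower.algebraMap_apply]
    exact hgen.symm
  have h2 : τ ζ = algebraMap (Algebra.adjoin ℚ⟮ζ⟯ (Set.range ((↑) : s → ℂ))) ℂ
      (algebraMap ℚ⟮ζ⟯ _ ((AdjoinSimple.gen ℚ ζ) ^ k)) := by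
    conv_lhs => rw [h1]
    rw [IsAlgClosure.equivOfEquiv_algebraMap, he, hσ]
  rw [h2, ← IsScalarTower.algebraMap_apply, map_pow]
  congr 1

section

variable {G : Type*} [Group G]

/-- Twist of a matrix representation by a ring endomorphism of `ℂ`, entrywise. -/
noncomputable def twistRep {m : ℕ} (τ : ℂ →+* ℂ) (ρ : Representation ℂ G (Fin m → ℂ)) :
    Representation ℂ G (Fin m → ℂ) :=
  ((Matrix.toLinAlgEquiv' : Matrix (Fin m) (Fin m) ℂ ≃ₐ[ℂ] _) :
      Matrix (Fin m) (Fin m) ℂ →* _).comp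
    (((τ.mapMatrix : Matrix (Fin m) (Fin m) ℂ →+* Matrix (Fin m) (Fin m) ℂ) :
        Matrix (Fin m) (Fin m) ℂ →* Matrix (Fin m) (Fin m) ℂ).comp
      (((LinearMap.toMatrixAlgEquiv' : _ ≃ₐ[ℂ] Matrix (Fin m) (Fin m) ℂ) : _ →* _).comp ρ))

theorem twistRep_character {m : ℕ} (τ : ℂ →+* ℂ) (ρ : Representation ℂ G (Fin m → ℂ)) (g : G) :
    (twistRep τ ρ).character g = τ (ρ.character g) := by
  have h1 : twistRep τ ρ g =
      Matrix.toLin' ((LinearMap.toMatrix' (ρ g)).map τ) := rfl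
  have h2 : ρ g = Matrix.toLin' (LinearMap.toMatrix' (ρ g)) := by
    rw [Matrix.toLin'_toMatrix']
  unfold Representation.character
  rw [h1, Matrix.trace_toLin'_eq]
  conv_rhs => rw [h2, Matrix.trace_toLin'_eq]
  exact (AddMonoidHom.map_trace τ _).symm

end

/-- Galois conjugation: for `k` coprime to `|G|`, `g ↦ χ (g ^ k)` is an irreducible character. -/
theorem isIrrCharacter_pow_coprime {G : Type*} [Group G] [Fintype G] (k : ℕ)
    (hk : Nat.Coprime k (Nat.card G)) (χ : IrrCharacter G) :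
    IsIrrCharacter G (fun g => (χ : G → ℂ) (g ^ k)) := by
  obtain ⟨m, ρ, hρ, hχ⟩ := χ.2
  have hn : 0 < Nat.card G := Nat.card_pos
  have hζ := Complex.isPrimitiveRoot_exp (Nat.card G) hn.ne'
  obtain ⟨τ, hτ⟩ := exists_ringEquiv_pow (Nat.card G) k hn hk _ hζ
  have hτχ : ∀ g : G, τ ((χ : G → ℂ) g) = (χ : G → ℂ) (g ^ k) := by
    intro g
    obtain ⟨mult, hm⟩ := character_pow_eq ρ g (Nat.card G) hn (pow_card_eq_one') _ hζ
    have h1 := hm 1
    have hk' := hm k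
    rw [pow_one] at h1
    rw [← hχ, h1, hk', map_sum]
    refine Finset.sum_congr rfl fun j _ => ?_
    rw [map_mul, map_natCast, pow_one, map_pow, hτ]
    ring
  have hIsChar : IsCharacter G (fun g => (χ : G → ℂ) (g ^ k)) := by
    refine ⟨m, twistRep (τ : ℂ →+* ℂ) ρ, funext fun g => ?_⟩
    rw [twistRep_character, hχ]
    exact hτχ g
  have := irr_finite (G := G)
  let _ : Fintype (IrrCharacter G) := Fintype.ofFinite _
  apply isIrrCharacter_of_norm_one _ hIsChar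
  have h1 := classInner_irr χ χ
  rw [if_pos rfl] at h1
  rw [← h1]
  unfold classInner
  congr 1
  exact Equiv.sum_comp (powCoprime hk.symm) (fun g => (χ : G → ℂ) g * conj ((χ : G → ℂ) g))

/-- The Galois conjugate `χ^(k)`, `g ↦ χ (g ^ k)`, for `k` coprime to `|G|`. -/
noncomputable def galConj {G : Type*} [Group G] [Fintype G] (k : ℕ)
    (hk : Nat.Coprime k (Nat.card G)) (χ : IrrCharacter G) : IrrCharacter G :=
  ⟨fun g => (χ : G → ℂ) (g ^ k), isIrrCharacter_pow_coprime k hk χ⟩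

theorem galConj_apply {G : Type*} [Group G] [Fintype G] (k : ℕ)
    (hk : Nat.Coprime k (Nat.card G)) (χ : IrrCharacter G) (g : G) :
    (galConj k hk χ : G → ℂ) g = (χ : G → ℂ) (g ^ k) := rfl

end Cfsg.Agent.Lib.Helper80
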