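import Cfsg.Agent.Lib.Helper80.Schur
import Cfsg.Agent.Lib.Helper4.CharLinear
import Cfsg.Agent.Lib.Helper4.CharInt

/-!
Central characters of irreducible characters, restricted to a central subgroup, as linear
characters of that subgroup; irreducible characters of abelian groups are linear.
-/

set_option autoImplicit false

namespace Cfsg.Agent.Lib.Helper80

open Cfsg Cfsg.Agent.Lib.Helper4
open scoped ComplexConjugate

section

variable {G : Type*} [Group G]

/-- The central character value `χ(z)/χ(1)`. -/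
noncomputable def cc (χ : IrrCharacter G) (z : G) : ℂ := (χ : G → ℂ) z / (χ : G → ℂ) 1

theorem irr_mul_central (χ : IrrCharacter G) {z : G} (hz : z ∈ Subgroup.center G) (g : G) :
    (χ : G → ℂ) (g * z) = cc χ z * (χ : G → ℂ) g := by
  obtain ⟨n, ρ, hρ, hχ⟩ := χ.2
  obtain ⟨c, hc1, hc2⟩ := central_character ρ z hz
  have h1 : (χ : G → ℂ) 1 = (Module.finrank ℂ (Fin n → ℂ) : ℂ) := by
    rw [← hχ, Representation.char_one]
  have hne := irr_one_ne_zero χ
  have hcc : cc χ z = c := by
    unfold cc
    rw [h1] at hne ⊢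
    rw [← hχ, hc2]
    field_simp
  rw [hcc, ← hχ]
  exact hc1 g

theorem cc_one (χ : IrrCharacter G) : cc χ 1 = 1 := div_self (irr_one_ne_zero χ)

theorem cc_mul (χ : IrrCharacter G) {z w : G} (hw : w ∈ Subgroup.center G) :
    cc χ (z * w) = cc χ z * cc χ w := by
  have h := irr_mul_central χ hw z
  unfold cc at h ⊢
  rw [h]
  ring

theorem irr_central (χ : IrrCharacter G) {z : G} (hz : z ∈ Subgroup.center G) :
    (χ : G → ℂ) z = cc χ z * (χ : G → ℂ) 1 := by
  have h := irr_mul_central χ hz 1
  rwa [one_mul] at h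

variable (N : Subgroup G) (hN : N ≤ Subgroup.center G)

/-- The central character restricted to a central subgroup, as a monoid homomorphism. -/
noncomputable def lamHom (χ : IrrCharacter G) : N →* ℂ where
  toFun n := cc χ n
  map_one' := cc_one χ
  map_mul' _ b := cc_mul χ (hN b.2)

/-- The central character restricted to a central subgroup, as an irreducible character. -/
noncomputable def lam (χ : IrrCharacter G) : IrrCharacter N :=
  ⟨fun n => (((lamHom N hN χ).toHomUnits n : ℂˣ) : ℂ), isIrrCharacter_lin _⟩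

theorem lam_apply (χ : IrrCharacter G) (n : N) : (lam N hN χ : N → ℂ) n = cc χ n := by
  simp [lam, lamHom]

open scoped Classical in
theorem inner_res [Fintype N] (χ : IrrCharacter G) (ψ : IrrCharacter N) :
    classInner (fun n : N => (χ : G → ℂ) n) (ψ : N → ℂ) =
      (χ : G → ℂ) 1 * (if lam N hN χ = ψ then 1 else 0) := by
  rw [← classInner_irr (lam N hN χ) ψ]
  unfold classInner
  have h : ∑ n : N, (χ : G → ℂ) n * conj ((ψ : N → ℂ) n) =
      (χ : G → ℂ) 1 * ∑ n : N, (lam N hN χ : N → ℂ) n * conj ((ψ : N → ℂ) n) := by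
    rw [Finset.mul_sum]
    refine Finset.sum_congr rfl fun n _ => ?_
    rw [lam_apply, irr_central χ (hN n.2)]
    ring
  rw [h]
  ring

end

/-- Irreducible characters of an abelian group have degree one. -/
theorem irr_one_of_comm {A : Type*} [Group A] [Fintype A] (hA : ∀ a b : A, a * b = b * a)
    (χ : IrrCharacter A) : (χ : A → ℂ) 1 = 1 := by
  classical
  have := irr_finite (G := A)
  have : Fintype (IrrCharacter A) := Fintype.ofFinite _
  have h1 : ∑ χ : IrrCharacter A, (irrDeg χ) ^ 2 = Nat.card A := by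
    have h := sum_sq_irr (G := A)
    have h2 : ∑ χ : IrrCharacter A, ((χ : A → ℂ) 1) ^ 2 =
        ((∑ χ : IrrCharacter A, (irrDeg χ) ^ 2 : ℕ) : ℂ) := by
      rw [Nat.cast_sum]
      refine Finset.sum_congr rfl fun χ _ => ?_
      rw [irrDeg_spec χ, Nat.cast_pow]
    rw [h2] at h
    exact_mod_cast h
  have h2 : Nat.card (IrrCharacter A) = Nat.card A := by
    rw [card_irr]
    apply Nat.card_congr
    refine Equiv.symm (Equiv.ofBijective ConjClasses.mk ⟨?_, ConjClasses.mk_surjective⟩)
    intro a b hab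
    rw [ConjClasses.mk_eq_mk_iff_isConj] at hab
    obtain ⟨c, hc⟩ := isConj_iff.mp hab
    rw [← hc, hA c a, mul_assoc, mul_inv_cancel, mul_one]
  have h3 : ∑ χ : IrrCharacter A, 1 = ∑ χ : IrrCharacter A, (irrDeg χ) ^ 2 := by
    rw [h1, ← h2, Nat.card_eq_fintype_card]
    simp
  have h4 := (Finset.sum_eq_sum_iff_of_le (s := Finset.univ) (f := fun _ : IrrCharacter A => 1)
    (g := fun χ : IrrCharacter A => (irrDeg χ) ^ 2)
    (fun χ _ => Nat.one_le_pow _ _ (irrDeg_pos χ))).1 h3 χ (Finset.mem_univ _)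
  have h5 : irrDeg χ = 1 := by
    have hp := irrDeg_pos χ
    nlinarith [h4]
  rw [irrDeg_spec χ, h5, Nat.cast_one]

end Cfsg.Agent.Lib.Helper80
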