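import Cfsg.Agent.Lib.Helper80.BaerX1
import Cfsg.Agent.Lib.Helper87.BaerX4a
import Cfsg.Agent.Lib.Helper87.BaerLA3
import Cfsg.Agent.Lib.Helper29.BaerX4b
import Cfsg.Agent.Lib.Helper29.BaerX76
import Cfsg.Agent.Lib.Helper30.BaerX6a2
import Cfsg.Agent.Lib.Helper90.BaerX6b
import Cfsg.Agent.Lib.Helper75.BaerX3
import Cfsg.Agent.Lib.Helper75.BaerX7A

/-!
# Lemma X (S4125)

A finite group `H` acting faithfully and coprimely on a finite abelian group `V` with all orbits
of `p`-power length is solvable.  Assembly of the pieces proved by helpers 18-90 (job board).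
-/

set_option autoImplicit false

namespace Cfsg.Agent.Lib.Helper80

universe u w

/-- The minimal situation is impossible unless `H` is solvable. -/
theorem min_solvable {p : ℕ} [Fact p.Prime] {H V : Type*} [Group H] [Finite H] [AddCommGroup V]
    [Finite V] [DistribMulAction H V] (hm : BaerMin p H V) : Group.IsSolvable H := by
  by_cases hdvd : p ∣ Nat.card H
  swap
  · exact hm.toBaerAct.solvable_of_not_dvd hdvd
  obtain ⟨P⟩ : Nonempty (Sylow p H) := inferInstance
  by_cases hn : ∀ A : Subgroup P, A.Normal → IsMulCommutative A → IsCyclic A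
  · rcases Cfsg.Agent.Lib.Helper29.pgroup_structure p P.isPGroup' hn with
      hcyc | ⟨h2, s, c, j, hs, hc, hcard, hj, hrel, hj2⟩
    · by_cases hp2 : p = 2
      · subst hp2
        exact cyclic_two hm P hcyc
      · rcases Cfsg.Agent.Lib.Helper30.cyclic_odd_exists_normal hm hp2 hdvd P hcyc with
          h | ⟨N, hN, h1, h2⟩
        · exact h
        · exact Cfsg.Agent.Lib.Helper90.cyclic_solvable_of_normal hm P hcyc N hN h1 h2
    · subst h2
      by_contra hns
      have hc' : orderOf (c : H) = 2 ^ s := by rw [Subgroup.orderOf_coe]; exact hc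
      have hj' : (j : H) ∉ Subgroup.zpowers (c : H) := by
        intro hmem
        apply hj
        obtain ⟨k, hk⟩ := Subgroup.mem_zpowers_iff.mp hmem
        exact Subgroup.mem_zpowers_iff.mpr ⟨k, Subtype.ext (by simpa using hk)⟩
      have hrel' : (j : H) * c * (j : H)⁻¹ = (c : H)⁻¹ ∨
          (3 ≤ s ∧ (j : H) * c * (j : H)⁻¹ = (c : H)⁻¹ * (c : H) ^ (2 ^ (s - 1))) := by
        rcases hrel with h | ⟨h3, h⟩
        · left; simpa using congrArg Subtype.val h
        · right; exact ⟨h3, by simpa using congrArg Subtype.val h⟩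
      have hj2' : (j : H) * j = 1 ∨ (j : H) * j = (c : H) ^ (2 ^ (s - 1)) := by
        rcases hj2 with h | h
        · left; simpa using congrArg Subtype.val h
        · right; simpa using congrArg Subtype.val h
      obtain ⟨q, hctx⟩ := Cfsg.Agent.Lib.Helper75.semiCtx_of_min hm hns P s c j c.2 j.2 hs hc'
        hcard hj' hrel' hj2'
      have h4 := Cfsg.Agent.Lib.Helper87.SemiCtx.mod_four hctx
      have hcm := Cfsg.Agent.Lib.Helper87.SemiCtx.c_mem hctx h4
      have hcardV := Cfsg.Agent.Lib.Helper87.SemiCtx.card_eq hctx h4 hcm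
      exact hns (Cfsg.Agent.Lib.Helper29.solvable_of_card_sq hctx.hq hm.toBaerAct hcardV hctx.hqV)
  · push Not at hn
    obtain ⟨A, hAn, hA, hnc⟩ := hn
    obtain ⟨z, a, hzc, hz1, hzp, hap, haz, hna⟩ :=
      Cfsg.Agent.Lib.Helper87.pgroup_rank2 p P.isPGroup' A hAn hA hnc
    refine Cfsg.Agent.Lib.Helper75.no_rank2 hm P z a z.2 a.2 ?_ ?_ ?_ ?_ ?_ ?_
    · intro x hx
      simpa using congrArg Subtype.val (hzc ⟨x, hx⟩)
    · intro h; exact hz1 (Subtype.ext (by simpa using h))
    · simpa using congrArg Subtype.val hzp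
    · simpa using congrArg Subtype.val hap
    · intro k h
      exact haz k (Subtype.ext (by simpa using h))
    · intro x hx
      obtain ⟨k, hk⟩ := hna ⟨x, hx⟩
      exact ⟨k, by simpa using congrArg Subtype.val hk⟩

/-- **Lemma X**: a finite group acting faithfully and coprimely on a finite abelian group with
all orbits of `p`-power length is solvable. -/
theorem lemmaX {p : ℕ} [Fact p.Prime] {H : Type w} {V : Type u} [Group H] [Finite H]
    [AddCommGroup V] [Finite V] [DistribMulAction H V] (hB : BaerAct p H V) :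
    Group.IsSolvable H :=
  lemmaX_of_min (fun _ _ _ _ _ _ _ hm => min_solvable hm) H V hB

end Cfsg.Agent.Lib.Helper80
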