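import Mathlib

/-!
Spectral projections of an endomorphism of finite order over `ℂ`, giving the values of a character on the
powers of a group element as sums of roots of unity with natural multiplicities.
-/

set_option autoImplicit false

namespace Cfsg.Agent.Lib.Helper80

open Finset

section spec

variable {V : Type*} [AddCommGroup V] [Module ℂ V]

/-- The spectral projection of `f` (with `f ^ N = 1`) for the `N`-th root of unity `a`. -/
noncomputable def specProj (f : Module.End ℂ V) (N : ℕ) (a : ℂ) : Module.End ℂ V :=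
  (N : ℂ)⁻¹ • ∑ k ∈ range N, (a⁻¹ • f) ^ k

theorem specProj_aux (f : Module.End ℂ V) (N : ℕ) (a : ℂ) (hf : f ^ N = 1) (ha : a ^ N = 1) :
    (a⁻¹ • f) * ∑ k ∈ range N, (a⁻¹ • f) ^ k = ∑ k ∈ range N, (a⁻¹ • f) ^ k := by
  have h1 : (a⁻¹ • f) ^ N = 1 := by
    rw [smul_pow, hf, inv_pow, ha, inv_one, one_smul]
  have h2 := mul_geom_sum (a⁻¹ • f) N
  rw [h1, sub_self, sub_mul, one_mul, sub_eq_zero] at h2
  exact h2

theorem mul_specProj (f : Module.End ℂ V) (N : ℕ) (hN : 0 < N) (a : ℂ) (hf : f ^ N = 1)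
    (ha : a ^ N = 1) : f * specProj f N a = a • specProj f N a := by
  have ha0 : a ≠ 0 := by
    intro h
    rw [h, zero_pow hN.ne'] at ha
    exact zero_ne_one ha
  have h := specProj_aux f N a hf ha
  unfold specProj
  rw [mul_smul_comm, smul_comm a]
  congr 1
  rw [smul_mul_assoc] at h
  calc f * ∑ k ∈ range N, (a⁻¹ • f) ^ k
      = a • (a⁻¹ • (f * ∑ k ∈ range N, (a⁻¹ • f) ^ k)) := by
        rw [smul_smul, mul_inv_cancel₀ ha0, one_smul]
    _ = a • ∑ k ∈ range N, (a⁻¹ • f) ^ k := by rw [h]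

theorem pow_mul_specProj (f : Module.End ℂ V) (N : ℕ) (hN : 0 < N) (a : ℂ) (hf : f ^ N = 1)
    (ha : a ^ N = 1) (k : ℕ) : f ^ k * specProj f N a = a ^ k • specProj f N a := by
  induction k with
  | zero => simp
  | succ k ih =>
    rw [pow_succ, mul_assoc, mul_specProj f N hN a hf ha, mul_smul_comm, ih, smul_smul, pow_succ,
      mul_comm]

theorem specProj_idem (f : Module.End ℂ V) (N : ℕ) (hN : 0 < N) (a : ℂ) (hf : f ^ N = 1)
    (ha : a ^ N = 1) : IsIdempotentElem (specProj f N a) := by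
  have ha0 : a ≠ 0 := by
    intro h
    rw [h, zero_pow hN.ne'] at ha
    exact zero_ne_one ha
  have hN0 : (N : ℂ) ≠ 0 := Nat.cast_ne_zero.2 hN.ne'
  have h1 : ∀ k : ℕ, (a⁻¹ • f) ^ k * specProj f N a = specProj f N a := by
    intro k
    rw [smul_pow, smul_mul_assoc, pow_mul_specProj f N hN a hf ha, smul_smul, inv_pow,
      inv_mul_cancel₀ (pow_ne_zero k ha0), one_smul]
  unfold IsIdempotentElem
  have e : specProj f N a = (N : ℂ)⁻¹ • ∑ k ∈ range N, (a⁻¹ • f) ^ k := rfl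
  calc specProj f N a * specProj f N a
      = ((N : ℂ)⁻¹ • ∑ k ∈ range N, (a⁻¹ • f) ^ k) * specProj f N a :=
        congrArg (· * specProj f N a) e
    _ = (N : ℂ)⁻¹ • ∑ k ∈ range N, ((a⁻¹ • f) ^ k * specProj f N a) := by
        rw [smul_mul_assoc, Finset.sum_mul]
    _ = specProj f N a := by
        rw [Finset.sum_congr rfl (fun k _ => h1 k), Finset.sum_const, card_range,
          ← Nat.cast_smul_eq_nsmul ℂ, smul_smul, inv_mul_cancel₀ hN0, one_smul]

theorem sum_specProj (f : Module.End ℂ V) (N : ℕ) (hN : 0 < N) (ζ : ℂ) (hζ : IsPrimitiveRoot ζ N) :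
    ∑ j ∈ range N, specProj f N (ζ ^ j) = 1 := by
  have hN0 : (N : ℂ) ≠ 0 := Nat.cast_ne_zero.2 hN.ne'
  have hζ0 : ζ ≠ 0 := hζ.ne_zero hN.ne'
  unfold specProj
  rw [← Finset.smul_sum, Finset.sum_comm]
  have h1 : ∀ k ∈ range N, ∑ j ∈ range N, ((ζ ^ j)⁻¹ • f) ^ k =
      (if k = 0 then (N : ℂ) else 0) • f ^ k := by
    intro k hk
    have h2 : ∀ j ∈ range N, ((ζ ^ j)⁻¹ • f) ^ k = (((ζ ^ k)⁻¹) ^ j) • f ^ k := by
      intro j _
      rw [smul_pow]
      congr 1
      rw [inv_pow, inv_pow, ← pow_mul, ← pow_mul, mul_comm]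
    rw [Finset.sum_congr rfl h2, ← Finset.sum_smul]
    congr 1
    split_ifs with hk0
    · subst hk0
      simp
    · have hk' : k < N := Finset.mem_range.1 hk
      have h3 : ζ ^ k ≠ 1 := hζ.pow_ne_one_of_pos_of_lt (Nat.pos_of_ne_zero hk0).ne' hk'
      have h4 : (ζ ^ k)⁻¹ ≠ 1 := by
        intro h
        apply h3
        rw [← inv_inv (ζ ^ k), h, inv_one]
      have h5 : ((ζ ^ k)⁻¹) ^ N = 1 := by
        rw [inv_pow, ← pow_mul, mul_comm, pow_mul, hζ.pow_eq_one, one_pow, inv_one]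
      have h6 := mul_geom_sum ((ζ ^ k)⁻¹) N
      rw [h5, sub_self] at h6
      rcases mul_eq_zero.1 h6 with h7 | h7
      · exact absurd (sub_eq_zero.1 h7) h4
      · exact h7
  rw [Finset.sum_congr rfl h1, Finset.sum_eq_single 0]
  · simp [hN0]
  · intro k _ hk0
    simp [hk0]
  · intro h
    exact absurd (Finset.mem_range.2 hN) h

variable [FiniteDimensional ℂ V]

/-- The traces of the powers of an endomorphism of finite order. -/
theorem trace_pow_eq (f : Module.End ℂ V) (N : ℕ) (hN : 0 < N) (hf : f ^ N = 1) (ζ : ℂ)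
    (hζ : IsPrimitiveRoot ζ N) :
    ∃ m : ℕ → ℕ, ∀ k : ℕ,
      LinearMap.trace ℂ V (f ^ k) = ∑ j ∈ range N, (m j : ℂ) * (ζ ^ j) ^ k := by
  refine ⟨fun j => Module.finrank ℂ (LinearMap.range (specProj f N (ζ ^ j))), fun k => ?_⟩
  have h1 : f ^ k = ∑ j ∈ range N, (ζ ^ j) ^ k • specProj f N (ζ ^ j) := by
    calc f ^ k = f ^ k * ∑ j ∈ range N, specProj f N (ζ ^ j) := by
          rw [sum_specProj f N hN ζ hζ, mul_one]
      _ = ∑ j ∈ range N, (ζ ^ j) ^ k • specProj f N (ζ ^ j) := by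
          rw [Finset.mul_sum]
          refine Finset.sum_congr rfl (fun j _ => ?_)
          exact pow_mul_specProj f N hN (ζ ^ j) hf
            (by rw [← pow_mul, mul_comm, pow_mul, hζ.pow_eq_one, one_pow]) k
  conv_lhs => rw [h1]
  rw [map_sum]
  refine Finset.sum_congr rfl (fun j _ => ?_)
  have h2 : IsIdempotentElem (specProj f N (ζ ^ j)) :=
    specProj_idem f N hN (ζ ^ j) hf (by rw [← pow_mul, mul_comm, pow_mul, hζ.pow_eq_one, one_pow])
  rw [map_smul, (LinearMap.IsIdempotentElem.isProj_range _ h2).trace, smul_eq_mul, mul_comm]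

end spec

/-- The values of a character on the powers of an element of finite order. -/
theorem character_pow_eq {G : Type*} [Group G] {V : Type*} [AddCommGroup V] [Module ℂ V]
    [FiniteDimensional ℂ V] (ρ : Representation ℂ G V) (g : G) (N : ℕ) (hN : 0 < N)
    (hg : g ^ N = 1) (ζ : ℂ) (hζ : IsPrimitiveRoot ζ N) :
    ∃ m : ℕ → ℕ, ∀ k : ℕ, ρ.character (g ^ k) = ∑ j ∈ range N, (m j : ℂ) * (ζ ^ j) ^ k := by
  have hf : (ρ g) ^ N = 1 := by rw [← map_pow, hg, map_one]
  obtain ⟨m, hm⟩ := trace_pow_eq (ρ g) N hN hf ζ hζ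
  refine ⟨m, fun k => ?_⟩
  rw [← hm k, Representation.character, map_pow]

end Cfsg.Agent.Lib.Helper80
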