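import Cfsg.Agent.S4517
import Cfsg.Agent.Lib.Helper21.Galois

/-!
# The twist `χ ↦ χ ∘ (· ^ k)` on irreducible characters (helper80)

Built on `Cfsg.Agent.S4517.tw`.  For `k` coprime to `|G|` this is the Galois action of the
automorphism `ζ ↦ ζ ^ k` of the `|G|`-th cyclotomic field.

* `tw_iterate`, `tw_one`, `charDegree_tw`, `centralChar_tw`, `sameBlock_tw`,
  `tw_mem_principalBlock`, `tw_eq_self_iff`.
* `sum_sub_sum_fixed_mem`: weighted fixed-point counting modulo an additive subgroup containing
  all doubles, for a self-map of `2`-power order.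
-/

set_option autoImplicit false

namespace Cfsg.Agent.Lib.Helper80

open Cfsg Cfsg.Agent.S4517

section TwistBasics

variable {G : Type*} [Group G] [Fintype G]

theorem tw_iterate (k : ℕ) (hk : Nat.Coprime k (Nat.card G)) (j : ℕ) (χ : IrrCharacter G)
    (g : G) : (((tw k hk)^[j] χ : IrrCharacter G) : G → ℂ) g = (χ : G → ℂ) (g ^ (k ^ j)) := by
  induction j generalizing g with
  | zero => simp
  | succ j ih =>
    rw [Function.iterate_succ_apply', tw_apply, ih, ← pow_mul, pow_succ']

theorem tw_one (k : ℕ) (hk : Nat.Coprime k (Nat.card G)) (χ : IrrCharacter G) :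
    (tw k hk χ : G → ℂ) 1 = (χ : G → ℂ) 1 := by
  rw [tw_apply, one_pow]

theorem charDegree_tw (k : ℕ) (hk : Nat.Coprime k (Nat.card G)) (χ : IrrCharacter G) :
    charDegree (tw k hk χ : G → ℂ) = charDegree (χ : G → ℂ) := by
  unfold charDegree
  rw [tw_one]

theorem centralChar_tw (k : ℕ) (hk : Nat.Coprime k (Nat.card G)) (χ : IrrCharacter G) (g : G) :
    centralChar (tw k hk χ : G → ℂ) g = centralChar (χ : G → ℂ) (g ^ k) := by
  unfold centralChar
  rw [tw_apply, tw_one, Cfsg.Agent.Lib.Helper21.centralizer_pow_eq g k hk.symm]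

theorem sameBlock_tw {M : Ideal AlgInt} (k : ℕ) (hk : Nat.Coprime k (Nat.card G))
    (χ ψ : IrrCharacter G) (h : SameBlock M (χ : G → ℂ) (ψ : G → ℂ)) :
    SameBlock M (tw k hk χ : G → ℂ) (tw k hk ψ : G → ℂ) := by
  intro g
  rw [centralChar_tw, centralChar_tw]
  exact h (g ^ k)

theorem tw_mem_principalBlock {M : Ideal AlgInt} (k : ℕ) (hk : Nat.Coprime k (Nat.card G))
    (ψ : IrrCharacter G) (h : ψ ∈ principalBlock M G) : tw k hk ψ ∈ principalBlock M G := by
  intro g
  have h1 := h (g ^ k)
  rw [centralChar_tw]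
  have h2 : centralChar (fun _ : G => (1 : ℂ)) g = centralChar (fun _ : G => (1 : ℂ)) (g ^ k) := by
    unfold centralChar
    rw [Cfsg.Agent.Lib.Helper21.centralizer_pow_eq g k hk.symm]
  rw [h2]
  exact h1

theorem tw_eq_self_iff (k : ℕ) (hk : Nat.Coprime k (Nat.card G)) (χ : IrrCharacter G) :
    tw k hk χ = χ ↔ ∀ g : G, (χ : G → ℂ) (g ^ k) = (χ : G → ℂ) g := by
  constructor
  · intro h g
    have h1 := congrFun (congrArg Subtype.val h) g
    exact h1
  · intro h
    apply Subtype.ext
    funext g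
    exact h g

/-- If `g ^ (k ^ j) = g` for all `g`, the `j`-th iterate of the twist is the identity. -/
theorem tw_iterate_eq_self (k : ℕ) (hk : Nat.Coprime k (Nat.card G)) (j : ℕ)
    (hj : ∀ g : G, g ^ (k ^ j) = g) (χ : IrrCharacter G) : (tw k hk)^[j] χ = χ := by
  apply Subtype.ext
  funext g
  rw [tw_iterate, hj]

end TwistBasics

section Counting

theorem apply_iterate_eq {α A : Type*} (σ : α → α) (f : α → A) (hf : ∀ a, f (σ a) = f a)
    (n : ℕ) (a : α) : f (σ^[n] a) = f a := by
  induction n with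
  | zero => rfl
  | succ n ih => rw [Function.iterate_succ_apply', hf, ih]

theorem iterate_mem_of_stable {α : Type*} (σ : α → α) (s : Finset α) (hs : ∀ a ∈ s, σ a ∈ s)
    (n : ℕ) (a : α) (ha : a ∈ s) : σ^[n] a ∈ s := by
  induction n with
  | zero => exact ha
  | succ n ih =>
    rw [Function.iterate_succ_apply']
    exact hs _ ih

/-- Weighted fixed-point counting for a self-map of `2`-power order: modulo an additive subgroup
`I` containing `f a + f a` for all `a`, the sum of a `σ`-invariant function over a `σ`-stable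
finite set equals its sum over the fixed points. -/
theorem sum_sub_sum_fixed_mem {α A : Type*} [DecidableEq α] [AddCommGroup A] (I : AddSubgroup A)
    (σ : α → α) (f : α → A) (hf : ∀ a, f (σ a) = f a) (h2 : ∀ a, f a + f a ∈ I) :
    ∀ (e : ℕ) (s : Finset α), (∀ a ∈ s, σ a ∈ s) → (∀ a ∈ s, σ^[2 ^ e] a = a) →
      ∑ a ∈ s, f a - ∑ a ∈ s.filter (fun a => σ a = a), f a ∈ I := by
  intro e
  induction e with
  | zero =>
    intro s _ h1
    have h3 : s.filter (fun a => σ a = a) = s :=
      Finset.filter_true_of_mem (fun a ha => by simpa using h1 a ha)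
    rw [h3, sub_self]
    exact I.zero_mem
  | succ e ih =>
    intro s hs h1
    have hττ : ∀ a ∈ s, σ^[2 ^ e] (σ^[2 ^ e] a) = a := by
      intro a ha
      rw [← Function.iterate_add_apply, ← two_mul, ← pow_succ']
      exact h1 a ha
    have hs' : ∀ a ∈ s.filter (fun a => σ^[2 ^ e] a = a),
        σ a ∈ s.filter (fun a => σ^[2 ^ e] a = a) := by
      intro a ha
      rw [Finset.mem_filter] at ha ⊢
      refine ⟨hs a ha.1, ?_⟩
      rw [← Function.iterate_succ_apply, Function.iterate_succ_apply', ha.2]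
    have h1' : ∀ a ∈ s.filter (fun a => σ^[2 ^ e] a = a), σ^[2 ^ e] a = a :=
      fun a ha => (Finset.mem_filter.1 ha).2
    have ih' := ih _ hs' h1'
    have hfilt : (s.filter (fun a => σ^[2 ^ e] a = a)).filter (fun a => σ a = a) =
        s.filter (fun a => σ a = a) := by
      ext a
      simp only [Finset.mem_filter]
      constructor
      · rintro ⟨⟨h3, -⟩, h4⟩
        exact ⟨h3, h4⟩
      · rintro ⟨h3, h4⟩
        exact ⟨⟨h3, Function.iterate_fixed h4 _⟩, h4⟩
    rw [hfilt] at ih'
    have hdiff : ∑ a ∈ s, f a - ∑ a ∈ s.filter (fun a => σ^[2 ^ e] a = a), f a ∈ I := by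
      rw [← Finset.sum_sdiff (Finset.filter_subset (fun a => σ^[2 ^ e] a = a) s) (f := f),
        add_sub_cancel_right]
      apply Cfsg.Agent.Lib.Helper79.sum_mem_of_involution I _ f (σ^[2 ^ e])
      · intro a ha
        rw [Finset.mem_sdiff, Finset.mem_filter] at ha ⊢
        refine ⟨iterate_mem_of_stable σ s hs _ a ha.1, ?_⟩
        rintro ⟨-, h5⟩
        apply ha.2
        refine ⟨ha.1, ?_⟩
        have h6 := hττ a ha.1
        rw [h5] at h6
        exact h6
      · intro a ha
        exact hττ a (Finset.mem_sdiff.1 ha).1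
      · intro a _
        rw [apply_iterate_eq σ f hf]
        exact h2 a
      · intro a ha hfix
        rw [Finset.mem_sdiff, Finset.mem_filter] at ha
        exact absurd ⟨ha.1, hfix⟩ ha.2
    have h7 := I.add_mem hdiff ih'
    have h8 : ∑ a ∈ s, f a - ∑ a ∈ s.filter (fun a => σ a = a), f a =
        (∑ a ∈ s, f a - ∑ a ∈ s.filter (fun a => σ^[2 ^ e] a = a), f a) +
        (∑ a ∈ s.filter (fun a => σ^[2 ^ e] a = a), f a -
          ∑ a ∈ s.filter (fun a => σ a = a), f a) := by abel
    rw [h8]
    exact h7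

end Counting

end Cfsg.Agent.Lib.Helper80
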