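import Mathlib

set_option autoImplicit false

/-!
Foundation for S5748 (simple groups in which commuting is transitive on non-identity elements):
the property `IsCT`, the local data `Data G A N q` of a simple CT-group of even order
(`A` the centralizer of an involution, `N` its normalizer, `q - 1` the number of involutions
of `A`), and the subgroup `Dsub N u = N ∩ u N u⁻¹`.
-/

namespace Cfsg.Agent.Lib.Helper80.CT

/-- commuting is a transitive relation on the non-identity elements -/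
def IsCT (G : Type*) [Group G] : Prop :=
  ∀ a b c : G, a ≠ 1 → b ≠ 1 → c ≠ 1 → Commute a b → Commute b c → Commute a c

/-- local data of a simple CT-group of even order -/
structure Data (G : Type*) [Group G] (A N : Subgroup G) (q : ℕ) : Prop where
  ct : IsCT G
  le : A ≤ N
  mem_N : ∀ g : G, g ∈ N ↔ ∀ x : G, x ∈ A ↔ g * x * g⁻¹ ∈ A
  comm : ∀ x ∈ A, ∀ y ∈ A, Commute x y
  cent : ∀ x ∈ A, x ≠ 1 → ∀ y : G, Commute y x → y ∈ A
  invol : ∀ u : G, orderOf u = 2 → ∃ g : G, g * u * g⁻¹ ∈ A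
  four_le : 4 ≤ q
  pow : ∃ f : ℕ, q = 2 ^ f
  dvd : q ∣ Nat.card A
  card_N : Nat.card N = Nat.card A * (q - 1)
  card_invol : Nat.card {x : G // x ∈ A ∧ orderOf x = 2} = q - 1
  ne_top : ∃ g : G, g ∉ N

/-- `N ∩ u N u⁻¹` -/
def Dsub {G : Type*} [Group G] (N : Subgroup G) (u : G) : Subgroup G :=
  N ⊓ N.map (MulAut.conj u).toMonoidHom

section

variable {G : Type*} [Group G]

theorem mem_Dsub (N : Subgroup G) (u d : G) : d ∈ Dsub N u ↔ d ∈ N ∧ u⁻¹ * d * u ∈ N := by
  unfold Dsub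
  rw [Subgroup.mem_inf, Subgroup.mem_map]
  constructor
  · rintro ⟨h1, y, hy, rfl⟩
    refine ⟨h1, ?_⟩
    have : u⁻¹ * ((MulAut.conj u).toMonoidHom y) * u = y := by
      simp [MulAut.conj_apply, mul_assoc]
    rw [this]
    exact hy
  · rintro ⟨h1, h2⟩
    refine ⟨h1, u⁻¹ * d * u, h2, ?_⟩
    simp [MulAut.conj_apply, mul_assoc]

variable {A N : Subgroup G} {q : ℕ}

theorem Data.even (hD : Data G A N q) : Even q := by
  obtain ⟨f, hf⟩ := hD.pow
  have h4 := hD.four_le
  rcases Nat.eq_zero_or_pos f with h0 | h0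
  · subst h0
    omega
  · rw [hf]
    exact (Nat.even_pow' h0.ne').mpr even_two

theorem Data.conj_mem (hD : Data G A N q) {g x : G} (hg : g ∈ N) (hx : x ∈ A) :
    g * x * g⁻¹ ∈ A :=
  ((hD.mem_N g).mp hg x).mp hx

theorem Data.conj_mem' (hD : Data G A N q) {g x : G} (hg : g ∈ N) (hx : x ∈ A) :
    g⁻¹ * x * g ∈ A := by
  have h := hD.conj_mem (inv_mem hg) hx
  rwa [inv_inv] at h

/-- `A` is a trivial intersection subgroup with normalizer `N` -/
theorem Data.ti (hD : Data G A N q) {g x : G} (hg : g ∉ N) (hx : x ∈ A)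
    (hgx : g * x * g⁻¹ ∈ A) : x = 1 := by
  by_contra hx1
  apply hg
  rw [hD.mem_N]
  have hgx1 : g * x * g⁻¹ ≠ 1 := by
    intro h
    apply hx1
    have h2 : x = g⁻¹ * (g * x * g⁻¹) * g := by group
    rw [h2, h]
    group
  intro y
  constructor
  · intro hy
    apply hD.cent _ hgx hgx1
    have h1 : Commute y x := hD.comm y hy x hx
    show (g * y * g⁻¹) * (g * x * g⁻¹) = (g * x * g⁻¹) * (g * y * g⁻¹)
    have h2 : y * x = x * y := h1
    calc (g * y * g⁻¹) * (g * x * g⁻¹) = g * (y * x) * g⁻¹ := by group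
      _ = g * (x * y) * g⁻¹ := by rw [h2]
      _ = (g * x * g⁻¹) * (g * y * g⁻¹) := by group
  · intro hy
    apply hD.cent x hx hx1
    have h1 : (g * y * g⁻¹) * (g * x * g⁻¹) = (g * x * g⁻¹) * (g * y * g⁻¹) :=
      hD.comm _ hy _ hgx
    show y * x = x * y
    have h2 : y * x = g⁻¹ * ((g * y * g⁻¹) * (g * x * g⁻¹)) * g := by group
    rw [h2, h1]
    group

/-- elements of `N` outside `A` act without fixed points on `A` -/
theorem Data.frob (hD : Data G A N q) {h x : G} (hhA : h ∉ A) (hx : x ∈ A)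
    (hc : Commute h x) : x = 1 := by
  by_contra hx1
  exact hhA (hD.cent x hx hx1 h hc)

theorem Data.exists_invol (hD : Data G A N q) : ∃ t ∈ A, orderOf t = 2 := by
  have h1 := hD.card_invol
  have h2 := hD.four_le
  have h3 : 0 < Nat.card {x : G // x ∈ A ∧ orderOf x = 2} := by omega
  obtain ⟨⟨t, ht⟩⟩ := (Nat.card_pos_iff.mp h3).1
  exact ⟨t, ht.1, ht.2⟩

/-- the involutions of `N` lie in `A` -/
theorem Data.invol_mem (hD : Data G A N q) {u : G} (hu : orderOf u = 2) (huN : u ∈ N) :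
    u ∈ A := by
  by_contra huA
  obtain ⟨t, htA, ht⟩ := hD.exists_invol
  have hu2 : u * u = 1 := by
    have := pow_orderOf_eq_one u
    rwa [hu, pow_two] at this
  have ht2 : t * t = 1 := by
    have := pow_orderOf_eq_one t
    rwa [ht, pow_two] at this
  have huinv : u⁻¹ = u := inv_eq_of_mul_eq_one_left hu2
  have htinv : t⁻¹ = t := inv_eq_of_mul_eq_one_left ht2
  have hc1 : u * t * u⁻¹ ∈ A := hD.conj_mem huN htA
  have hx : t * (u * t * u⁻¹) ∈ A := mul_mem htA hc1
  have hcomm : Commute u (t * (u * t * u⁻¹)) := by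
    show u * (t * (u * t * u⁻¹)) = (t * (u * t * u⁻¹)) * u
    have h1 : (u * t * u⁻¹) * t = t * (u * t * u⁻¹) := hD.comm _ hc1 _ htA
    calc u * (t * (u * t * u⁻¹)) = (u * t * u⁻¹) * (u * u) * t * u⁻¹ := by group
      _ = ((u * t * u⁻¹) * t) * u⁻¹ := by rw [hu2, mul_one]
      _ = (t * (u * t * u⁻¹)) * u := by rw [h1, huinv]
  have h1 := hD.frob huA hx hcomm
  have h2 : u * t * u⁻¹ = t := by
    have h3 : u * t * u⁻¹ = t⁻¹ * (t * (u * t * u⁻¹)) := by group
    rw [h3, h1, mul_one, htinv]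
  have hcomm2 : Commute u t := by
    show u * t = t * u
    have h3 : u * t = (u * t * u⁻¹) * u := by group
    rw [h3, h2]
  have h4 := hD.frob huA htA hcomm2
  rw [h4, orderOf_one] at ht
  omega

end

end Cfsg.Agent.Lib.Helper80.CT
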