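import Cfsg.Agent.Lib.Helper4.TPDefs
import Cfsg.Agent.S4035

/-!
Project TP (S4033, helper4), piece TRANS: if `s ∤ m` and `x` is a noncentral `s`-element, every
centralizer of a noncentral `p`-regular element is the centralizer of a conjugate of `x`.
-/

set_option autoImplicit false

namespace Cfsg.Agent.Lib.Helper4.TP

universe u

theorem trans_helper80_ncard {G : Type u} [Group G] (x : G) :
    (ConjClasses.mk x).carrier.ncard = (Subgroup.centralizer ({x} : Set G)).index := by
  have h1 := Subgroup.index_comap_of_surjective (MulAction.stabilizer (ConjAct G) x)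
    (f := (ConjAct.toConjAct (G := G)).toMonoidHom) (MulEquiv.surjective _)
  rw [← ConjAct.orbit_eq_carrier_conjClasses, ← MulAction.index_stabilizer,
    Subgroup.centralizer_eq_comap_stabilizer]
  exact h1.symm

theorem trans_helper80_conj_nc {G : Type u} [Group G] (p : ℕ) (x h : G) (hx : NC p x) :
    NC p (h * x * h⁻¹) := by
  constructor
  · unfold PReg
    have h1 : orderOf (h * x * h⁻¹) = orderOf x := by
      have h2 := (MulAut.conj h).orderOf_eq x
      rw [MulAut.conj_apply] at h2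
      exact h2
    rw [h1]
    exact hx.1
  · intro hc
    apply hx.2
    have h1 := (inferInstance : (Subgroup.center G).Normal).conj_mem _ hc h⁻¹
    have h2 : h⁻¹ * (h * x * h⁻¹) * h⁻¹⁻¹ = x := by group
    rw [h2] at h1
    exact h1

theorem trans : TransStmt.{u} := by
  intro G _ _ p m s hp hH hA hs hsp hsm x hxc hxs w hw
  have : Fact s.Prime := ⟨hs⟩
  obtain ⟨k, hk⟩ := hxs
  have hxNC : NC p x := by
    refine ⟨?_, hxc⟩
    unfold PReg
    rw [hk]
    exact Nat.Coprime.pow_left k ((Nat.coprime_primes hs hp).mpr hsp)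
  have hxp : IsPGroup s (Subgroup.zpowers x) := by
    apply IsPGroup.of_card (n := k)
    rw [Nat.card_zpowers, hk]
  obtain ⟨P, hP⟩ := hxp.exists_le_sylow
  have hxP : x ∈ (P : Subgroup G) := hP (Subgroup.mem_zpowers x)
  have hidx : (Cen w).index = m := hH.2.2 w hw
  have hcl : ¬ s ∣ (ConjClasses.mk w).carrier.ncard := by
    rw [trans_helper80_ncard, hidx]
    exact hsm
  obtain ⟨g, hg⟩ := Cfsg.Agent.S4035.exists_conj_centralized P w hcl
  have h1 := hg x hxP
  refine ⟨g⁻¹, ?_⟩
  have hx' : NC p (g⁻¹ * x * g⁻¹⁻¹) := trans_helper80_conj_nc p x g⁻¹ hxNC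
  have hcomm : w * (g⁻¹ * x * g⁻¹⁻¹) = (g⁻¹ * x * g⁻¹⁻¹) * w := by
    rw [inv_inv]
    calc w * (g⁻¹ * x * g) = g⁻¹ * ((g * w * g⁻¹) * x) * g := by group
      _ = g⁻¹ * (x * (g * w * g⁻¹)) * g := by rw [h1]
      _ = g⁻¹ * x * g * w := by group
  have hmem : g⁻¹ * x * g⁻¹⁻¹ ∈ Cen w := by
    rw [Subgroup.mem_centralizer_iff]
    intro y hy
    rw [Set.mem_singleton_iff] at hy
    rw [hy]
    exact hcomm
  have hmem' : w ∈ Cen (g⁻¹ * x * g⁻¹⁻¹) := by
    rw [Subgroup.mem_centralizer_iff]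
    intro y hy
    rw [Set.mem_singleton_iff] at hy
    rw [hy]
    exact hcomm.symm
  exact le_antisymm (hA w _ hw hx'.1 hmem) (hA _ w hx' hw.1 hmem')

end Cfsg.Agent.Lib.Helper4.TP
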