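import Mathlib
import Cfsg.Agent.Lib.Helper81.AQDefs

/-!
# Project AQ (helper81, S3911): piece ASMFACT
-/

set_option autoImplicit false

namespace Cfsg.Agent.Lib.Helper81.AQ

variable {G : Type*} [Group G]

-- piece ASMFACT
theorem asm_fact [Finite G] (L : Subgroup G) (S : Finset ℕ) (hSp : ∀ p ∈ S, p.Prime)
    (Z : ℕ → Subgroup G) (hZL : ∀ p ∈ S, Z p ≤ L)
    (hcard : ∀ p ∈ S, Nat.card (Z p) = p ^ (Nat.card L).factorization p)
    (hcomm : IsMulCommutative ↥(⨆ p ∈ S, Z p)) :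
    ∀ q : ℕ, q.Prime → (Nat.card ↥(⨆ p ∈ S, Z p)).factorization q =
      if q ∈ S then (Nat.card L).factorization q else 0 := by
  intro q hq
  have hAL : (⨆ p ∈ S, Z p) ≤ L := iSup₂_le hZL
  have hA0 : Nat.card ↥(⨆ p ∈ S, Z p) ≠ 0 := Nat.card_pos.ne'
  have hL0 : Nat.card ↥L ≠ 0 := Nat.card_pos.ne'
  have hZA : ∀ p ∈ S, Z p ≤ ⨆ p ∈ S, Z p := fun p hp => le_iSup₂ (f := fun p _ => Z p) p hp
  by_cases hqS : q ∈ S
  · rw [if_pos hqS]
    apply le_antisymm
    · exact (Nat.factorization_le_iff_dvd hA0 hL0).mpr (Subgroup.card_dvd_of_le hAL) q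
    · have h1 : q ^ (Nat.card L).factorization q ∣ Nat.card ↥(⨆ p ∈ S, Z p) := by
        rw [← hcard q hqS]
        exact Subgroup.card_dvd_of_le (hZA q hqS)
      exact (hq.pow_dvd_iff_le_factorization hA0).mp h1
  · rw [if_neg hqS]
    apply Nat.factorization_eq_zero_of_not_dvd
    intro hdvd
    -- the exponent
    let K : Subgroup G :=
      { carrier := {a | a ∈ (⨆ p ∈ S, Z p) ∧ a ^ (∏ p ∈ S, Nat.card (Z p)) = 1}
        mul_mem' := by
          rintro a b ⟨ha, hae⟩ ⟨hb, hbe⟩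
          refine ⟨Subgroup.mul_mem _ ha hb, ?_⟩
          have hab : Commute a b := by
            have h1 := hcomm.is_comm.comm ⟨a, ha⟩ ⟨b, hb⟩
            exact congrArg Subtype.val h1
          rw [hab.mul_pow, hae, hbe, one_mul]
        one_mem' := ⟨Subgroup.one_mem _, one_pow _⟩
        inv_mem' := by
          rintro a ⟨ha, hae⟩
          exact ⟨Subgroup.inv_mem _ ha, by rw [inv_pow, hae, inv_one]⟩ }
    have hAK : (⨆ p ∈ S, Z p) ≤ K := by
      apply iSup₂_le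
      intro p hp z hz
      refine ⟨hZA p hp hz, ?_⟩
      obtain ⟨k, hk⟩ := Finset.dvd_prod_of_mem (fun p => Nat.card (Z p)) hp
      have h1 : (⟨z, hz⟩ : Z p) ^ Nat.card (Z p) = 1 := pow_card_eq_one'
      have h2 : z ^ Nat.card (Z p) = 1 := by
        have h := congrArg (fun w : Z p => (w : G)) h1
        rw [Subgroup.coe_pow, Subgroup.coe_one] at h
        exact h
      rw [hk, pow_mul, h2, one_pow]
    have : Fact q.Prime := ⟨hq⟩
    obtain ⟨a, ha⟩ := exists_prime_orderOf_dvd_card' (G := ↥(⨆ p ∈ S, Z p)) q hdvd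
    have ha' : orderOf (a : G) = q := by rw [Subgroup.orderOf_coe]; exact ha
    have haE : (a : G) ^ (∏ p ∈ S, Nat.card (Z p)) = 1 := (hAK a.2).2
    have hqE : q ∣ ∏ p ∈ S, Nat.card (Z p) := by
      rw [← ha']; exact orderOf_dvd_of_pow_eq_one haE
    obtain ⟨p, hp, hqp⟩ := (Nat.Prime.prime hq).dvd_finsetProd_iff _ |>.mp hqE
    rw [hcard p hp] at hqp
    have h3 : q ∣ p := hq.dvd_of_dvd_pow hqp
    have h4 : q = p := (Nat.prime_dvd_prime_iff_eq hq (hSp p hp)).mp h3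
    exact hqS (h4 ▸ hp)

end Cfsg.Agent.Lib.Helper81.AQ
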