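import Mathlib
import Cfsg.Agent.Lib.Helper10.BWDefs

/-!
# S0997 case B2 (project BW of helper10): piece BW-COUNT (helper80)

`(p + 1) |M| = |G|` from `cv ∈ {1, 1/p}` and `Σ cv = |G| / (e + 1)`.
-/

set_option autoImplicit false

namespace Cfsg.Agent.Lib.Helper10.BW

open Cfsg
open Cfsg.Agent.Lib.Helper83 (trivIrr)
open Cfsg.Agent.Lib.Helper10.BR (psum DOut)
open scoped ComplexConjugate

universe u

variable {G : Type u} [Group G] [Fintype G]

variable {p e : ℕ} {P : Subgroup G} {θ θ' : IrrCharacter G}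
  {Xp Xm D : Finset (IrrCharacter G)}

/-- BW-COUNT -/
theorem index_m1 (h : VTab G p e P θ θ' Xp Xm D)
    (hvals : ∀ g : G, cv P (θ : G → ℂ) g = 1 ∨ cv P (θ : G → ℂ) g = 1 / (p : ℂ))
    (hsum : ∑ g : G, cv P (θ : G → ℂ) g = (Nat.card G : ℂ) / (θ : G → ℂ) 1)
    (M : Subgroup G) (hM : ∀ g : G, g ∈ M ↔ cv P (θ : G → ℂ) g = 1) :
    (p + 1) * Nat.card M = Nat.card G := by
  classical
  have hp0 : (p : ℂ) ≠ 0 := by exact_mod_cast h.hp.ne_zero
  have he0 : (e : ℂ) ≠ 0 := by
    have := h.he2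
    exact_mod_cast (by omega : e ≠ 0)
  have he1 : (e : ℂ) + 1 ≠ 0 := by exact_mod_cast (Nat.succ_ne_zero e)
  have hpe : (p : ℂ) = 2 * e + 1 := by exact_mod_cast h.hpe
  have hcv : ∀ g : G, cv P (θ : G → ℂ) g = if g ∈ M then 1 else 1 / (p : ℂ) := by
    intro g
    split_ifs with hg
    · exact (hM g).mp hg
    · rcases hvals g with h1 | h1
      · exact absurd ((hM g).mpr h1) hg
      · exact h1
  have hc1 : (Finset.univ.filter (fun g : G => g ∈ M)).card = Nat.card M := by
    rw [Nat.card_eq_fintype_card, Fintype.card_subtype]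
  have hle : Nat.card M ≤ Nat.card G := Subgroup.card_le_card_group M
  have hc2 : (Finset.univ.filter (fun g : G => ¬ g ∈ M)).card = Nat.card G - Nat.card M := by
    rw [Finset.filter_not, Finset.card_sdiff_of_subset (Finset.filter_subset _ _), hc1,
      Finset.card_univ, ← Nat.card_eq_fintype_card]
  have hsum2 : ∑ g : G, cv P (θ : G → ℂ) g =
      (Nat.card M : ℂ) + ((Nat.card G : ℂ) - Nat.card M) / p := by
    simp_rw [hcv]
    rw [Finset.sum_ite]
    simp only [Finset.sum_const, nsmul_eq_mul, mul_one]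
    rw [hc1, hc2, Nat.cast_sub hle]
    ring
  rw [hsum, h.degθ] at hsum2
  have key : ((p : ℂ) + 1) * (Nat.card M : ℂ) = (Nat.card G : ℂ) := by
    field_simp at hsum2
    rw [hpe] at hsum2 ⊢
    have h3 : (e : ℂ) * ((2 * e + 1 + 1) * (Nat.card M : ℂ) - Nat.card G) = 0 := by
      linear_combination (-1 : ℂ) * hsum2
    rcases mul_eq_zero.mp h3 with h4 | h4
    · exact absurd h4 he0
    · linear_combination h4
  exact_mod_cast key

end Cfsg.Agent.Lib.Helper10.BW
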