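import Mathlib
import Cfsg.Agent.Lib.Helper10.BWDefs
import Cfsg.Agent.Lib.Helper83.IrrBasic

/-!
# S0997 case B2 (project BW of helper10): piece BW-REC (helper80)

The recursion `cv(k⁻¹ x k) = ((1 + s cv k)/(1 + s))²`, `s = 2θ(x) - 1`.
-/

set_option autoImplicit false

namespace Cfsg.Agent.Lib.Helper10.BW

open Cfsg
open Cfsg.Agent.Lib.Helper83 (trivIrr)
open Cfsg.Agent.Lib.Helper10.BR (psum DOut)
open scoped ComplexConjugate

universe u

variable {G : Type u} [Group G] [Fintype G]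

variable {p e : ℕ} {P : Subgroup G} {θ θ' : IrrCharacter G}
  {Xp Xm D : Finset (IrrCharacter G)}

/-- BW-REC -/
theorem recursion (h : VTab G p e P θ θ' Xp Xm D) (h1 : psum P (θ : G → ℂ) 1 = (p : ℂ))
    (hrk : ∀ a b : G, (∑ᶠ u : P, om P (θ : G → ℂ) (a * (u : G) * b)) / (Nat.card P : ℂ) =
      om P (θ : G → ℂ) a * om P (θ : G → ℂ) b)
    (ζ : G → ℂ)
    (hform : ∀ k x : G, x ∈ P → om P (θ : G → ℂ) (k⁻¹ * x * k) =
      (θ : G → ℂ) x / ((e : ℂ) + 1) + (1 - (θ : G → ℂ) x / ((e : ℂ) + 1)) * ζ k)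
    (k x : G) (hx : x ∈ P) (hx1 : x ≠ 1) :
    cv P (θ : G → ℂ) (k⁻¹ * x * k) =
      ((1 + (2 * (θ : G → ℂ) x - 1) * cv P (θ : G → ℂ) k) / (1 + (2 * (θ : G → ℂ) x - 1))) ^ 2 := by
  classical
  haveI : Fintype P := Fintype.ofFinite P
  have hp0 : (p : ℂ) ≠ 0 := by exact_mod_cast h.hp.ne_zero
  have he0 : (e : ℂ) ≠ 0 := by
    have := h.he2
    exact_mod_cast (by omega : e ≠ 0)
  have he1 : (e : ℂ) + 1 ≠ 0 := by exact_mod_cast (Nat.succ_ne_zero e)
  have hpe : (p : ℂ) = 2 * e + 1 := by exact_mod_cast h.hpe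
  have hPc : (Nat.card P : ℂ) = p := by rw [h.cardP]
  have hcard : (Fintype.card P : ℂ) = p := by rw [← Nat.card_eq_fintype_card, h.cardP]
  have hθsum : ∑ u : P, (θ : G → ℂ) (u : G) = p := by
    rw [← h1, BR.psum_eq_sum]
    simp
  have hcvk : cv P (θ : G → ℂ) k = 1 / ((e : ℂ) + 1) + ((e : ℂ) / (e + 1)) * ζ k := by
    have h2 := hrk k⁻¹ k
    rw [finsum_eq_sum_of_fintype] at h2
    have h3 : ∑ u : P, om P (θ : G → ℂ) (k⁻¹ * (u : G) * k) =
        ∑ u : P, ((θ : G → ℂ) (u : G) / ((e : ℂ) + 1) +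
          (1 - (θ : G → ℂ) (u : G) / ((e : ℂ) + 1)) * ζ k) :=
      Finset.sum_congr rfl (fun u _ => hform k u u.2)
    rw [h3, Finset.sum_add_distrib, ← Finset.sum_div, ← Finset.sum_mul, Finset.sum_sub_distrib,
      ← Finset.sum_div, hθsum] at h2
    simp only [Finset.sum_const, Finset.card_univ, nsmul_eq_mul, mul_one] at h2
    rw [hcard, hPc] at h2
    unfold cv
    rw [← h2]
    field_simp
    ring
  set s : ℂ := 2 * (θ : G → ℂ) x - 1 with hs
  have hs2 : s ^ 2 = (p : ℂ) := h.sq x hx hx1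
  have hθx : (θ : G → ℂ) x = (1 + s) / 2 := by rw [hs]; ring
  have hes : (e : ℂ) = (s ^ 2 - 1) / 2 := by rw [hs2, hpe]; ring
  have hs1 : 1 + s ≠ 0 := by
    intro h0
    have h4 : s = -1 := by linear_combination h0
    rw [h4, hpe] at hs2
    exact he0 (by linear_combination (-1 / 2 : ℂ) * hs2)
  have hs3 : s ^ 2 - 1 ≠ 0 := by
    intro h0
    rw [h0] at hes
    exact he0 (by rw [hes]; simp)
  have hs4 : s ^ 2 + 1 ≠ 0 := by
    intro h0
    apply he1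
    rw [hes]
    linear_combination (1 / 2 : ℂ) * h0
  have hreal : conj ((θ : G → ℂ) x) = (θ : G → ℂ) x := by
    have hsq : (((Real.sqrt p : ℝ) : ℂ)) ^ 2 = (p : ℂ) := by
      rw [← Complex.ofReal_pow, Real.sq_sqrt (Nat.cast_nonneg p)]
      simp
    have h5 : (s - ((Real.sqrt p : ℝ) : ℂ)) * (s + ((Real.sqrt p : ℝ) : ℂ)) = 0 := by
      linear_combination hs2 - hsq
    have hsc : conj s = s := by
      rcases mul_eq_zero.mp h5 with h4 | h4
      · have h6 : s = ((Real.sqrt p : ℝ) : ℂ) := by linear_combination h4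
        rw [h6]
        simp
      · have h6 : s = -((Real.sqrt p : ℝ) : ℂ) := by linear_combination h4
        rw [h6]
        simp
    rw [hθx]
    simp only [map_div₀, map_add, map_one, hsc, map_ofNat]
  have hθinv : (θ : G → ℂ) x⁻¹ = (θ : G → ℂ) x := by
    rw [Cfsg.Agent.Lib.Helper83.irr_inv θ.2 x, hreal]
  have hom : ∀ z ∈ P, (θ : G → ℂ) z = (θ : G → ℂ) x →
      om P (θ : G → ℂ) (k⁻¹ * z * k) = (1 + s * cv P (θ : G → ℂ) k) / (1 + s) := by
    intro z hz hzx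
    have he1' : (e : ℂ) + 1 = (s ^ 2 + 1) / 2 := by rw [hes]; ring
    rw [hform k z hz, hzx, hcvk, hθx, he1', hes]
    field_simp
    ring
  have hinvk : (k⁻¹ * x * k)⁻¹ = k⁻¹ * x⁻¹ * k := by group
  rw [show cv P (θ : G → ℂ) (k⁻¹ * x * k) =
      om P (θ : G → ℂ) (k⁻¹ * x * k)⁻¹ * om P (θ : G → ℂ) (k⁻¹ * x * k) from rfl, hinvk,
    hom x⁻¹ (inv_mem hx) hθinv, hom x hx rfl]
  ring

end Cfsg.Agent.Lib.Helper10.BW
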