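import Mathlib
import Cfsg.Agent.Lib.Helper80.CTDefs
import Cfsg.Agent.S0885

set_option autoImplicit false

/-!
S5748, piece ZASQ: in the situation of `Data G A N q`, once `G` is known to be a Zassenhaus group on
`G ⧸ N` of degree `|A| + 1`, Feit's inequality (landed `S0885`) applied to the abelian subgroup `A`
gives `|A| = q`.
-/

namespace Cfsg.Agent.Lib.Helper80.CT

section

variable {G : Type*} [Group G] [Finite G] {A N : Subgroup G} {q : ℕ}

theorem card_A_eq (hD : Data G A N q) (hZ : Cfsg.IsZassenhausGroup G (G ⧸ N))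
    (hidx : N.index = Nat.card A + 1)
    (hall : ∀ v : G, orderOf v = 2 → v ∉ N →
      Dsub N v ⊓ A = ⊥ ∧ Nat.card (Dsub N v) = q - 1 ∧ ∀ d ∈ Dsub N v, v * d * v⁻¹ = d⁻¹)
    (hcoset : ∀ g : G, g ∉ N → ∃ v : G, orderOf v = 2 ∧ v * g⁻¹ ∈ N)
    (hfixA : ∀ x ∈ A, x ≠ 1 → ∀ g : G, g⁻¹ * x * g ∈ N → g ∈ N) :
    Nat.card A = q := by
  classical
  have hq := hD.four_le
  obtain ⟨g0, hg0⟩ := hD.ne_top
  obtain ⟨u, hu, hug⟩ := hcoset g0 hg0
  have huN : u ∉ N := by
    intro h
    apply hg0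
    have h1 : g0⁻¹ = u⁻¹ * (u * g0⁻¹) := by group
    have h2 : g0⁻¹ ∈ N := by
      rw [h1]
      exact mul_mem (inv_mem h) hug
    simpa using inv_mem h2
  obtain ⟨-, hcard, -⟩ := hall u hu huN
  have hαβ : ((1 : G) : G ⧸ N) ≠ ((u : G) : G ⧸ N) := by
    intro e
    rw [QuotientGroup.eq] at e
    apply huN
    simpa using e
  have hstab1 : ∀ k : G, k • ((1 : G) : G ⧸ N) = ((1 : G) : G ⧸ N) ↔ k ∈ N := by
    intro k
    show ((k * 1 : G) : G ⧸ N) = ((1 : G) : G ⧸ N) ↔ k ∈ N
    rw [QuotientGroup.eq]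
    constructor
    · intro h
      have h2 : k⁻¹ ∈ N := by simpa using h
      simpa using inv_mem h2
    · intro h
      simpa using h
  have hstabu : ∀ k : G, k • ((u : G) : G ⧸ N) = ((u : G) : G ⧸ N) ↔ u⁻¹ * k * u ∈ N := by
    intro k
    show ((k * u : G) : G ⧸ N) = ((u : G) : G ⧸ N) ↔ u⁻¹ * k * u ∈ N
    rw [QuotientGroup.eq]
    have h1 : (k * u)⁻¹ * u = (u⁻¹ * k * u)⁻¹ := by group
    rw [h1, inv_mem_iff]
  have hstab : (MulAction.stabilizer G ((1 : G) : G ⧸ N) ⊓
      MulAction.stabilizer G ((u : G) : G ⧸ N) : Subgroup G) = Dsub N u := by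
    ext k
    rw [Subgroup.mem_inf, MulAction.mem_stabilizer_iff, MulAction.mem_stabilizer_iff, hstab1,
      hstabu, mem_Dsub]
  have hodd : Odd (q - 1) := by
    obtain ⟨k, hk⟩ := hD.even
    exact ⟨k - 1, by omega⟩
  letI : Fintype (G ⧸ N) := Fintype.ofFinite _
  have hcardΩ : Fintype.card (G ⧸ N) = Nat.card A + 1 := by
    rw [Fintype.card_eq_nat_card, ← hidx]
    rfl
  have hres := Cfsg.Agent.S0885.result (G := G) (Ω := G ⧸ N) hZ hαβ (Nat.card A) (q - 1) hcardΩ
    (by rw [hstab]; exact hcard) hodd A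
    (by
      intro x hx
      rw [MulAction.mem_stabilizer_iff, hstab1]
      exact hD.le hx)
    hcardΩ.symm
    (by
      intro x hx hx1 c hc
      induction c using QuotientGroup.induction_on with
      | H g =>
        have h1 : ((x * g : G) : G ⧸ N) = ((g : G) : G ⧸ N) := hc
        rw [QuotientGroup.eq] at h1
        have h2 : g⁻¹ * x * g ∈ N := by
          have h3 : g⁻¹ * x * g = ((x * g)⁻¹ * g)⁻¹ := by group
          rw [h3]
          exact inv_mem h1
        have hgN := hfixA x hx hx1 g h2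
        rw [QuotientGroup.eq]
        simpa using inv_mem hgN)
  rcases hres with h1 | ⟨-, ⟨x, y, hxy⟩, -⟩
  · obtain ⟨k, hk⟩ := hD.dvd
    have hpos : 0 < Nat.card A := Nat.card_pos
    have hk0 : k ≠ 0 := by
      rintro rfl
      rw [mul_zero] at hk
      omega
    have hk1 : k = 1 := by
      by_contra hne
      have hk2 : 2 ≤ k := by omega
      have h2 : q * 2 ≤ q * k := Nat.mul_le_mul_left q hk2
      omega
    rw [hk, hk1, mul_one]
  · exfalso
    apply hxy
    apply Subtype.ext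
    exact (hD.comm x x.2 y y.2).eq

end

end Cfsg.Agent.Lib.Helper80.CT
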