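import Mathlib
import Cfsg.Agent.Lib.Helper23.Syl
import Cfsg.Agent.Lib.Helper76.N22Count
import Cfsg.Agent.Lib.Helper76.SylPrime

/-!
# Cole-range orders (S0978: 5040), piece N8 (placeholder; project of helper80)
-/

set_option autoImplicit false

namespace Cfsg.Agent.Lib.Helper80.Cole

universe u

/-- N8: order 5040, eight Sylow 7-subgroups: no element of order 5 centralizes a Sylow
7-subgroup. -/
theorem n8_false {G : Type u} [Group G] [Finite G] [IsSimpleGroup G]
    (hcard : Nat.card G = 5040) (hn : Nat.card (Sylow 7 G) = 8) (Q : Sylow 7 G)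
    (x : G) (hx : x ∈ Subgroup.centralizer ((Q : Subgroup G) : Set G)) (hx1 : x ≠ 1)
    (hx5 : x ^ 5 = 1) : False := by
  have : Fact (Nat.Prime 5) := ⟨by norm_num⟩
  have : Fact (Nat.Prime 7) := ⟨by norm_num⟩
  have hG : ¬ IsMulCommutative G :=
    Cfsg.Agent.Lib.Helper23.not_comm_of_simple_of_not_prime (by rw [hcard]; norm_num)
  have hn1 : Nat.card (Sylow 7 G) ≠ 1 := by rw [hn]; norm_num
  have hx5' : x ^ 5 ^ 1 = 1 := by rw [pow_one]; exact hx5
  have hmod7 := Cfsg.Agent.Lib.Helper76.SylPrime.fix_mod Q x hx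
  have hmod5 := Cfsg.Agent.Lib.Helper76.SylPrime.fix_modEq_of_pow (p := 7) 5 x 1 hx5'
  have hlt := Cfsg.Agent.Lib.Helper76.SylPrime.fix_lt (p := 7) hG hn1 x hx1
  rw [hn] at hmod5 hlt
  omega

end Cfsg.Agent.Lib.Helper80.Cole
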