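import Mathlib
import Cfsg.Agent.Lib.Helper23.Syl
import Cfsg.Agent.Lib.Helper64.BRG5
import Cfsg.Agent.Lib.Helper34.BRG4
import Cfsg.Agent.Lib.Helper74.BRG3
import Cfsg.Agent.Lib.Helper80.CoN8
import Cfsg.Agent.Lib.Helper80.CoINVC7

/-!
# Cole-range orders (S0978: 5040), piece C35 (placeholder; project of helper80)
-/

set_option autoImplicit false

namespace Cfsg.Agent.Lib.Helper80.Cole

universe u

/-- C35: order 5040: the centralizer of a Sylow 5-subgroup does not have order 35. -/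
theorem c35_false {G : Type u} [Group G] [Finite G] [IsSimpleGroup G]
    (hcard : Nat.card G = 5040) (P : Sylow 5 G) (hP : Nat.card P = 5)
    (hC : Nat.card (Subgroup.centralizer ((P : Subgroup G) : Set G)) = 35) : False := by
  have : Fact (Nat.Prime 2) := ⟨by norm_num⟩
  have : Fact (Nat.Prime 5) := ⟨by norm_num⟩
  have : Fact (Nat.Prime 7) := ⟨by norm_num⟩
  have hG : ¬ IsMulCommutative G :=
    Cfsg.Agent.Lib.Helper23.not_comm_of_simple_of_not_prime (by rw [hcard]; norm_num)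
  have hc5 : ∀ R : Sylow 5 G, Nat.card (R : Subgroup G) = 5 := by
    intro R
    have h := Cfsg.Agent.Lib.Helper23.sylow_card_of_eq (p := 5) (k := 1) (m := 1008)
      (by rw [hcard]; norm_num) (by norm_num) R
    simpa using h
  have hc7 : ∀ R : Sylow 7 G, Nat.card (R : Subgroup G) = 7 := by
    intro R
    have h := Cfsg.Agent.Lib.Helper23.sylow_card_of_eq (p := 7) (k := 1) (m := 720)
      (by rw [hcard]; norm_num) (by norm_num) R
    simpa using h
  -- an element `y` of order 7 in `C(P)`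
  obtain ⟨y, hyC, hy1, hy7⟩ := Cfsg.Agent.Lib.Helper76.SylPrime.exists_mem_pow_eq_one
    (Subgroup.centralizer ((P : Subgroup G) : Set G)) 7 (by rw [hC]; norm_num)
  -- a Sylow 7-subgroup `Q` containing `y`
  have hyp : IsPGroup 7 (Subgroup.zpowers y) := by
    apply IsPGroup.of_card (n := 1)
    rw [Nat.card_zpowers, orderOf_eq_prime hy7 hy1, pow_one]
  obtain ⟨Q, hQ⟩ := hyp.exists_le_sylow
  have hyQ : y ∈ (Q : Subgroup G) := hQ (Subgroup.mem_zpowers y)
  -- an element `x` of order 5 in `P`; it centralizes `Q`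
  obtain ⟨x, hxP, hx1⟩ := Cfsg.Agent.Lib.Helper76.SylPrime.exists_ne_one_mem hc5 P
  have hx5 : x ^ 5 = 1 := Cfsg.Agent.Lib.Helper76.SylPrime.pow_eq_one hc5 P x hxP
  have hxy : y * x = x * y := (Subgroup.mem_centralizer_iff.mp hyC x hxP).symm
  have hxCQ : x ∈ Subgroup.centralizer ((Q : Subgroup G) : Set G) :=
    Cfsg.Agent.Lib.Helper76.SylPrime.mem_centralizer_of_commute hc7 Q y hyQ hy1 x hxy
  -- numerics
  obtain ⟨r, c, hr6, hr1, hCQ, hNQ, hprod⟩ :=
    Cfsg.Agent.Lib.Helper76.SylPrime.card_centralizer_mul hG hc7 Q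
  have h5 : 5 ∣ Nat.card (Subgroup.centralizer ((Q : Subgroup G) : Set G)) :=
    Cfsg.Agent.Lib.Helper76.SylPrime.dvd_card_of_mem _ 5 x hxCQ hx1 hx5
  have hmod : Nat.card (Sylow 7 G) % 7 = 1 := card_sylow_modEq_one 7 G
  have hn1 : Nat.card (Sylow 7 G) ≠ 1 :=
    Cfsg.Agent.Lib.Helper23.simple_sylow_card_ne_one (p := 7) (k := 1) (m := 720)
      (by rw [hcard]; norm_num) (by norm_num) (by norm_num) (by norm_num)
  rw [hCQ] at h5
  rw [hcard] at hprod
  have h5c : 5 ∣ c := by omega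
  obtain ⟨c', rfl⟩ := h5c
  have hr : r = 2 ∨ r = 3 ∨ r = 6 := by
    have hr_le : r ≤ 7 - 1 := Nat.le_of_dvd (by norm_num) hr6
    have hr_pos : 0 < r := Nat.pos_of_dvd_of_pos hr6 (by norm_num)
    have hr6' : (7 - 1) % r = 0 := Nat.mod_eq_zero_of_dvd hr6
    interval_cases r <;> omega
  obtain ⟨n, hn⟩ : ∃ n, Nat.card (Sylow 7 G) = n := ⟨_, rfl⟩
  rw [hn] at hprod hmod hn1
  have hcases : n = 8 ∨ (n = 36 ∧ r = 2 ∧ c' = 2) := by
    rcases hr with rfl | rfl | rfl
    · have h1 : c' * n = 72 := by nlinarith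
      have h2 : n ∣ 72 := Dvd.intro_left c' h1
      have h3 : n ≤ 72 := Nat.le_of_dvd (by norm_num) h2
      interval_cases n <;> omega
    · have h1 : c' * n = 48 := by nlinarith
      have h2 : n ∣ 48 := Dvd.intro_left c' h1
      have h3 : n ≤ 48 := Nat.le_of_dvd (by norm_num) h2
      interval_cases n <;> omega
    · have h1 : c' * n = 24 := by nlinarith
      have h2 : n ∣ 24 := Dvd.intro_left c' h1
      have h3 : n ≤ 24 := Nat.le_of_dvd (by norm_num) h2
      interval_cases n <;> omega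
  rcases hcases with h8 | ⟨-, rfl, rfl⟩
  · exact n8_false hcard (hn.trans h8) Q x hxCQ hx1 hx5
  · -- `|C(Q)| = 70`, `|N(Q)| = 140`: an involution centralizes `Q`
    have hrel : (Subgroup.centralizer ((Q : Subgroup G) : Set G)).relIndex
        (Subgroup.normalizer ((Q : Subgroup G) : Set G)) = 2 := by
      have h := Cfsg.Agent.S4304.card_mul_relIndex_of_le
        (Subgroup.centralizer_le_normalizer ((Q : Subgroup G) : Set G))
      rw [hCQ, hNQ] at h
      omega
    obtain ⟨t, htC, ht1, ht2⟩ := Cfsg.Agent.Lib.Helper76.SylPrime.exists_mem_pow_eq_one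
      (Subgroup.centralizer ((Q : Subgroup G) : Set G)) 2 (by rw [hCQ]; norm_num)
    exact invc7_false hcard Q (hc7 Q) hrel t htC ht1 (by rw [← pow_two]; exact ht2)

end Cfsg.Agent.Lib.Helper80.Cole
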