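import Mathlib
import Cfsg.Agent.Lib.Helper23.Syl
import Cfsg.Agent.Lib.Helper76.N22Count
import Cfsg.Agent.Lib.Helper76.SylPrime

/-!
# Cole-range orders (S0977: 4320), piece N16 (placeholder; project of helper80)
-/

set_option autoImplicit false

namespace Cfsg.Agent.Lib.Helper80.Cole

universe u

/-- N16: order 4320, sixteen Sylow 5-subgroups, `|C_G(P)| = 135`. -/
theorem n16_false {G : Type u} [Group G] [Finite G] [IsSimpleGroup G]
    (hcard : Nat.card G = 4320) (hn : Nat.card (Sylow 5 G) = 16) (P : Sylow 5 G)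
    (hC : Nat.card (Subgroup.centralizer ((P : Subgroup G) : Set G)) = 135) : False := by
  have : Fact (Nat.Prime 3) := ⟨by norm_num⟩
  have : Fact (Nat.Prime 5) := ⟨by norm_num⟩
  have hG : ¬ IsMulCommutative G :=
    Cfsg.Agent.Lib.Helper23.not_comm_of_simple_of_not_prime (by rw [hcard]; norm_num)
  have hn1 : Nat.card (Sylow 5 G) ≠ 1 := by rw [hn]; norm_num
  obtain ⟨K0, hK0⟩ := Sylow.exists_subgroup_card_pow_prime 3
    (G := Subgroup.centralizer ((P : Subgroup G) : Set G)) (n := 3) (by rw [hC]; norm_num)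
  obtain ⟨K, hK⟩ : ∃ K : Subgroup G,
      K = K0.map (Subgroup.centralizer ((P : Subgroup G) : Set G)).subtype := ⟨_, rfl⟩
  have hKcard : Nat.card K = 27 := by
    rw [hK, Subgroup.card_map_of_injective (Subgroup.subtype_injective _), hK0]
    norm_num
  have hKle : K ≤ Subgroup.centralizer ((P : Subgroup G) : Set G) := by
    rw [hK]
    exact Subgroup.map_subtype_le K0
  have hfix : ∀ a ∈ K, a ≠ 1 → (MulAction.fixedBy (Sylow 5 G) a).ncard = 1 := by
    intro a haK ha1
    have haC := hKle haK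
    have ha27 : a ^ 3 ^ 3 = 1 := by
      have h1 : (⟨a, haK⟩ : K) ^ Nat.card K = 1 := pow_card_eq_one'
      rw [hKcard] at h1
      have h2 := congrArg Subtype.val h1
      simpa using h2
    have hmod5 := Cfsg.Agent.Lib.Helper76.SylPrime.fix_mod P a haC
    have hmod3 := Cfsg.Agent.Lib.Helper76.SylPrime.fix_modEq_of_pow (p := 5) 3 a 3 ha27
    have hlt := Cfsg.Agent.Lib.Helper76.SylPrime.fix_lt (p := 5) hG hn1 a ha1
    rw [hn] at hmod3 hlt
    omega
  have hdvd := Cfsg.Agent.Lib.Helper76.N22.card_dvd_of_fix (Ω := Sylow 5 G) K 1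
    (by rw [hn]; norm_num) hfix
  rw [hKcard, hn] at hdvd
  norm_num at hdvd

end Cfsg.Agent.Lib.Helper80.Cole
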