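import Mathlib
import Cfsg.Agent.Lib.Helper23.Syl
import Cfsg.Agent.Lib.Helper76.N22Count
import Cfsg.Agent.Lib.Helper76.SylPrime

/-!
# Cole-range orders (S0978: 5040), piece N56 (placeholder; project of helper80)
-/

set_option autoImplicit false

namespace Cfsg.Agent.Lib.Helper80.Cole

universe u

/-- an element of order dividing `3` normalizing the group of order `5` generated by `h`
commutes with `h` -/
theorem con56_commute {G : Type*} [Group G] (x h : G) (hx3 : x ^ 3 = 1) (hh5 : orderOf h = 5)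
    (hn : x * h * x⁻¹ ∈ Subgroup.zpowers h) : x * h = h * x := by
  have hfin : IsOfFinOrder h := by
    rw [← orderOf_pos_iff, hh5]
    norm_num
  rw [← hfin.mem_powers_iff_mem_zpowers] at hn
  obtain ⟨n, hn⟩ := hn
  have hn' : h ^ n = x * h * x⁻¹ := hn
  have hc : ∀ m : ℕ, x * h ^ m * x⁻¹ = h ^ (n * m) := by
    intro m
    rw [← conj_pow, ← hn', ← pow_mul]
  have h3 : x ^ 3 * h * (x ^ 3)⁻¹ = h ^ (n * (n * n)) := by
    have e1 : x ^ 3 * h * (x ^ 3)⁻¹ = x * (x * (x * h * x⁻¹) * x⁻¹) * x⁻¹ := by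
      simp only [pow_succ, pow_zero, one_mul, mul_inv_rev, mul_assoc]
    rw [e1, ← hn', hc n, hc (n * n)]
  rw [hx3, one_mul, inv_one, mul_one] at h3
  have h4 : h ^ 1 = h ^ (n * (n * n)) := by
    rw [pow_one]
    exact h3
  rw [pow_eq_pow_iff_modEq, hh5] at h4
  have h5 : n % 5 = 1 := by
    have h6 : (n * (n * n)) % 5 = 1 := by
      have h := h4.symm
      unfold Nat.ModEq at h
      omega
    have h7 : n % 5 < 5 := Nat.mod_lt _ (by norm_num)
    have h8 : (n * (n * n)) % 5 = ((n % 5) * ((n % 5) * (n % 5))) % 5 := by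
      simp [Nat.mul_mod]
    rw [h8] at h6
    generalize n % 5 = r at h6 h7
    interval_cases r <;> omega
  have h9 : h ^ n = h := by
    rw [← pow_mod_orderOf, hh5, h5, pow_one]
  have h10 : x * h * x⁻¹ = h := by rw [← hn', h9]
  calc x * h = x * h * x⁻¹ * x := by group
    _ = h * x := by rw [h10]

/-- N56: order 5040, 56 Sylow 5-subgroups, `|C_G(P)| = 45`. -/
theorem n56_false {G : Type u} [Group G] [Finite G] [IsSimpleGroup G]
    (hcard : Nat.card G = 5040) (hn : Nat.card (Sylow 5 G) = 56) (P : Sylow 5 G)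
    (hC : Nat.card (Subgroup.centralizer ((P : Subgroup G) : Set G)) = 45) : False := by
  haveI : Fact (Nat.Prime 5) := ⟨by norm_num⟩
  haveI : Fact (Nat.Prime 3) := ⟨by norm_num⟩
  have hG : ¬ IsMulCommutative G :=
    Cfsg.Agent.Lib.Helper23.not_comm_of_simple_of_not_prime (by rw [hcard]; norm_num)
  have hc : ∀ Q : Sylow 5 G, Nat.card (Q : Subgroup G) = 5 := by
    intro Q
    have h := Cfsg.Agent.Lib.Helper23.sylow_card_of_eq (p := 5) (k := 1) (m := 1008)
      (by rw [hcard]; norm_num) (by norm_num) Q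
    rwa [pow_one] at h
  have hn1 : Nat.card (Sylow 5 G) ≠ 1 := by
    rw [hn]
    norm_num
  obtain ⟨x, hxC, hx1, hx3⟩ := Cfsg.Agent.Lib.Helper76.SylPrime.exists_mem_pow_eq_one
    (Subgroup.centralizer ((P : Subgroup G) : Set G)) 3 (by rw [hC]; norm_num)
  have h1 := Cfsg.Agent.Lib.Helper76.SylPrime.fix_mod P x hxC
  have h2 := Cfsg.Agent.Lib.Helper76.SylPrime.fix_modEq_of_pow (p := 5) 3 x 1 (by rwa [pow_one])
  have h3 := Cfsg.Agent.Lib.Helper76.SylPrime.fix_lt hG hn1 x hx1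
  rw [hn] at h2 h3
  have hcent : ∀ Q : Sylow 5 G, x • Q = Q →
      x ∈ Subgroup.centralizer ((Q : Subgroup G) : Set G) := by
    intro Q hxQ
    have hxN : x ∈ Subgroup.normalizer ((Q : Subgroup G) : Set G) :=
      Sylow.smul_eq_iff_mem_normalizer.mp hxQ
    obtain ⟨h, hh, hh1⟩ := Cfsg.Agent.Lib.Helper76.SylPrime.exists_ne_one_mem hc Q
    have hh5 : orderOf h = 5 :=
      orderOf_eq_prime (Cfsg.Agent.Lib.Helper76.SylPrime.pow_eq_one hc Q h hh) hh1
    apply Cfsg.Agent.Lib.Helper76.SylPrime.mem_centralizer_of_commute hc Q h hh hh1 x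
    have hmem : x * h * x⁻¹ ∈ Subgroup.zpowers h := by
      rw [Cfsg.Agent.Lib.Helper76.SylPrime.zpowers_eq hc Q h hh hh1]
      exact (Subgroup.mem_normalizer_iff.mp hxN h).mp hh
    exact (con56_commute x h hx3 hh5 hmem).symm
  have hxP : x • P = P := Cfsg.Agent.Lib.Helper76.SylPrime.smul_eq_of_mem_centralizer P x hxC
  have hcz := Cfsg.Agent.Lib.Helper76.SylPrime.card_centralizer_eq P x hxP hcent
  have h4 := Subgroup.card_dvd_of_le (le_top : Subgroup.centralizer ({x} : Set G) ≤ ⊤)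
  rw [Subgroup.card_top, hcard, hcz] at h4
  have h5 : (MulAction.fixedBy (Sylow 5 G) x).ncard ∣ 5040 := (Dvd.intro _ rfl).trans h4
  generalize (MulAction.fixedBy (Sylow 5 G) x).ncard = f at h1 h2 h3 h5
  have hf : f = 11 ∨ f = 26 ∨ f = 41 := by omega
  rcases hf with rfl | rfl | rfl <;> exact absurd h5 (by decide)

end Cfsg.Agent.Lib.Helper80.Cole
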