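import Mathlib
import Cfsg.Agent.Lib.Helper4.FCDefs

/-!
# Project FC (helper4, S4146): piece HALF
-/

namespace Cfsg.Agent.Lib.Helper4.FC

universe u

theorem fc_half : QRegStmt.{u} → S33AppStmt.{u} → HalfStmt.{u} := by
  intro hQ hS G _ _ n m q p b w hFour hq hp hpq hb hcsb hw hwb hbw
  obtain ⟨hn1, hm1, hnm, hall, -, -, -⟩ := hFour
  have hm0 : 0 < m := by omega
  -- class sizes of `q`-regular elements of `Cen b`
  have key : ∀ y : ↥(Cen b), (orderOf y).Coprime q → cs y = 1 ∨ cs y = n := by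
    intro y hy
    have hy' : (orderOf (y : G)).Coprime q := by
      rw [Subgroup.orderOf_coe]; exact hy
    have h1 := hQ G q b hb y hy'
    rw [hcsb] at h1
    rcases hall (b * (y : G)) with h | h | h | h
    · rw [h] at h1
      have : m = 1 := Nat.eq_one_of_mul_eq_one_left h1
      omega
    · rw [h] at h1
      have hdvd : m ∣ n := Dvd.intro_left _ h1
      have : m = 1 := Nat.Coprime.eq_one_of_dvd hnm.symm hdvd
      omega
    · rw [h] at h1
      left
      have : cs y * m = 1 * m := by rw [h1, one_mul]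
      exact Nat.eq_of_mul_eq_mul_right hm0 this
    · rw [h] at h1
      right
      exact Nat.eq_of_mul_eq_mul_right hm0 h1
  have hwq : (orderOf w).Coprime q := by
    obtain ⟨k, hk⟩ := hw
    rw [hk]
    exact Nat.Coprime.pow_left k ((Nat.coprime_primes hp hq).mpr hpq)
  have hw' : Prim p (⟨w, hwb⟩ : ↥(Cen b)) := by
    obtain ⟨k, hk⟩ := hw
    refine ⟨k, ?_⟩
    rw [← hk, ← Subgroup.orderOf_coe]
  have hcw : cs (⟨w, hwb⟩ : ↥(Cen b)) = n := by
    have h1 := hQ G q b hb ⟨w, hwb⟩ hwq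
    rw [hcsb] at h1
    have h2 : cs (⟨w, hwb⟩ : ↥(Cen b)) * m = n * m := by rw [h1]; exact hbw
    exact Nat.eq_of_mul_eq_mul_right hm0 h2
  exact hS (↥(Cen b)) q p n hq hp hpq hn1 key ⟨w, hwb⟩ hw' hcw

end Cfsg.Agent.Lib.Helper4.FC
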