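import Mathlib

/-!
Small lemmas on finite `p`-groups: class-two commutator homomorphism, prime-index subgroups,
and `[P : Z(P)] = p² ⇒ |P'| = p`.
-/

set_option autoImplicit false

namespace Cfsg.Agent.Lib.Helper80

open scoped commutatorElement

/-- If all commutators are central, `y ↦ ⁅y, x⁆` is a homomorphism. -/
def commHom {P : Type*} [Group P] (h : commutator P ≤ Subgroup.center P) (x : P) : P →* P where
  toFun y := ⁅y, x⁆
  map_one' := by simp
  map_mul' y y' := by
    have hc : ⁅y', x⁆ ∈ Subgroup.center P :=
      h (Subgroup.commutator_mem_commutator (Subgroup.mem_top _) (Subgroup.mem_top _))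
    rw [Subgroup.mem_center_iff] at hc
    calc ⁅y * y', x⁆ = y * ⁅y', x⁆ * x * y⁻¹ * x⁻¹ := by
          simp only [commutatorElement_def]; group
      _ = ⁅y', x⁆ * y * x * y⁻¹ * x⁻¹ := by rw [hc y]
      _ = ⁅y', x⁆ * ⁅y, x⁆ := by simp only [commutatorElement_def]; group
      _ = ⁅y, x⁆ * ⁅y', x⁆ := (hc _).symm

theorem commHom_apply {P : Type*} [Group P] (h : commutator P ≤ Subgroup.center P) (x y : P) :
    commHom h x y = ⁅y, x⁆ := rfl

theorem commHom_ker {P : Type*} [Group P] (h : commutator P ≤ Subgroup.center P) (x : P) :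
    (commHom h x).ker = Subgroup.centralizer {x} := by
  ext y
  rw [MonoidHom.mem_ker, commHom_apply, commutatorElement_eq_one_iff_mul_comm,
    Subgroup.mem_centralizer_iff]
  constructor
  · intro hy z hz
    rw [Set.mem_singleton_iff] at hz
    subst hz
    exact hy.symm
  · intro hy
    exact (hy x rfl).symm

theorem commHom_range_le {P : Type*} [Group P] (h : commutator P ≤ Subgroup.center P) (x : P) :
    (commHom h x).range ≤ commutator P := by
  rintro _ ⟨y, rfl⟩
  exact Subgroup.commutator_mem_commutator (Subgroup.mem_top _) (Subgroup.mem_top _)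

theorem card_commHom_range {P : Type*} [Group P] (h : commutator P ≤ Subgroup.center P) (x : P) :
    Nat.card (commHom h x).range = (Subgroup.centralizer {x}).index := by
  rw [← commHom_ker h x, Subgroup.index_ker]

/-- A subgroup containing a subgroup of prime index is that subgroup or everything. -/
theorem eq_or_eq_top_of_index_prime {P : Type*} [Group P] {H M : Subgroup P} (hHM : H ≤ M)
    (hp : H.index.Prime) : M = H ∨ M = ⊤ := by
  have h1 := Subgroup.relIndex_mul_index hHM
  have h2 : M.index ∣ H.index := Subgroup.index_dvd_of_le hHM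
  rcases (Nat.dvd_prime hp).1 h2 with h3 | h3
  · right
    exact Subgroup.index_eq_one.1 h3
  · left
    rw [h3] at h1
    have h4 : H.relIndex M = 1 := by
      have hpos : 0 < H.index := hp.pos
      have : H.relIndex M * H.index = 1 * H.index := by rw [h1, one_mul]
      exact Nat.eq_of_mul_eq_mul_right hpos this
    exact le_antisymm (Subgroup.relIndex_eq_one.1 h4) hHM

/-- A group is not the union of two proper subgroups. -/
theorem exists_not_mem_of_ne_top {P : Type*} [Group P] {H K : Subgroup P} (hH : H ≠ ⊤)
    (hK : K ≠ ⊤) : ∃ c : P, c ∉ H ∧ c ∉ K := by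
  obtain ⟨h, hh⟩ : ∃ h : P, h ∉ H := by
    by_contra hcon
    push Not at hcon
    exact hH (eq_top_iff.2 fun x _ => hcon x)
  obtain ⟨k, hk⟩ : ∃ k : P, k ∉ K := by
    by_contra hcon
    push Not at hcon
    exact hK (eq_top_iff.2 fun x _ => hcon x)
  by_cases h1 : h ∈ K
  · by_cases h2 : k ∈ H
    · refine ⟨h * k, fun h3 => hh ?_, fun h3 => hk ?_⟩
      · have := H.mul_mem h3 (H.inv_mem h2)
        simpa using this
      · have := K.mul_mem (K.inv_mem h1) h3
        simpa using this
    · exact ⟨k, h2, hk⟩
  · exact ⟨h, hh, h1⟩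

/-- In a nilpotent group, a subgroup with `H ≤ ⁅H, ⊤⁆` is trivial. -/
theorem eq_bot_of_le_commutator_top {P : Type*} [Group P] [Group.IsNilpotent P] {H : Subgroup P}
    (hH : H ≤ ⁅H, (⊤ : Subgroup P)⁆) : H = ⊥ := by
  obtain ⟨n, hn⟩ := Subgroup.nilpotent_iff_lowerCentralSeries.1
    (inferInstance : Group.IsNilpotent P)
  have key : ∀ m : ℕ, H ≤ Subgroup.lowerCentralSeries (⊤ : Subgroup P) m := by
    intro m
    induction m with
    | zero => simp
    | succ m ih =>
      refine hH.trans ?_
      rw [Subgroup.lowerCentralSeries_succ]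
      exact Subgroup.commutator_mono ih le_rfl
  exact le_bot_iff.1 (hn ▸ key n)

/-- If `[P : Z(P)] = p²` then `|P'| = p`. -/
theorem card_commutator_of_index_center_eq_sq {P : Type*} [Group P] [Finite P] (p : ℕ)
    [Fact p.Prime] (hZ : (Subgroup.center P).index = p ^ 2) : Nat.card (commutator P) = p := by
  have hp := (Fact.out : p.Prime)
  have hcard : Nat.card (P ⧸ Subgroup.center P) = p ^ 2 := hZ
  have hPZ : commutator P ≤ Subgroup.center P := by
    have hcomm := isMulCommutative_iff.1 (IsPGroup.isMulCommutative_of_card_eq_prime_sq hcard)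
    let _ : CommGroup (P ⧸ Subgroup.center P) :=
      { (inferInstance : Group (P ⧸ Subgroup.center P)) with mul_comm := hcomm }
    have := Abelianization.commutator_subset_ker (QuotientGroup.mk' (Subgroup.center P))
    rwa [QuotientGroup.ker_mk'] at this
  -- centralizers of noncentral elements have index p
  have hidx : ∀ x : P, x ∉ Subgroup.center P → (Subgroup.centralizer {x}).index = p := by
    intro x hx
    have hle : Subgroup.center P ≤ Subgroup.centralizer {x} := Subgroup.center_le_centralizer _
    have h1 := Subgroup.relIndex_mul_index hle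
    rw [hZ] at h1
    have h2 : (Subgroup.centralizer {x}).index ∣ p ^ 2 := Dvd.intro_left _ h1
    obtain ⟨k, hk, hk2⟩ := (Nat.dvd_prime_pow hp).1 h2
    have hxc : x ∈ Subgroup.centralizer {x} := by
      rw [Subgroup.mem_centralizer_iff]
      intro h hh
      rw [Set.mem_singleton_iff] at hh
      rw [hh]
    interval_cases k
    · exfalso
      rw [pow_zero, Subgroup.index_eq_one] at hk2
      apply hx
      rw [Subgroup.mem_center_iff]
      intro g
      have : g ∈ Subgroup.centralizer {x} := hk2 ▸ Subgroup.mem_top g
      rw [Subgroup.mem_centralizer_iff] at this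
      exact (this x rfl).symm
    · simpa using hk2
    · exfalso
      rw [hk2] at h1
      have h3 : (Subgroup.center P).relIndex (Subgroup.centralizer {x}) = 1 := by
        have hpos : 0 < p ^ 2 := pow_pos hp.pos 2
        exact Nat.eq_of_mul_eq_mul_right hpos (by rw [h1, one_mul])
      exact hx (Subgroup.relIndex_eq_one.1 h3 hxc)
  have hcardr : ∀ x : P, x ∉ Subgroup.center P → Nat.card (commHom hPZ x).range = p := by
    intro x hx
    rw [card_commHom_range, hidx x hx]
  have heq : ∀ a b : P, a ∉ Subgroup.center P → b ∉ Subgroup.center P → ⁅a, b⁆ ≠ 1 →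
      (commHom hPZ a).range = (commHom hPZ b).range := by
    intro a b ha hb hab
    have h1 : ⁅a, b⁆ ∈ (commHom hPZ b).range := ⟨a, rfl⟩
    have h2 : ⁅a, b⁆ ∈ (commHom hPZ a).range := by
      rw [← commutatorElement_inv]
      exact Subgroup.inv_mem _ ⟨b, rfl⟩
    have h3 : Nat.card ((commHom hPZ a).range ⊓ (commHom hPZ b).range : Subgroup P) = p := by
      have hd : Nat.card ((commHom hPZ a).range ⊓ (commHom hPZ b).range : Subgroup P) ∣ p := by
        rw [← hcardr a ha]
        exact Subgroup.card_dvd_of_le inf_le_left
      rcases (Nat.dvd_prime hp).1 hd with h | h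
      · exfalso
        rw [Subgroup.card_eq_one] at h
        have : ⁅a, b⁆ ∈ (⊥ : Subgroup P) := h ▸ ⟨h2, h1⟩
        exact hab (Subgroup.mem_bot.1 this)
      · exact h
    have e1 : (commHom hPZ a).range ⊓ (commHom hPZ b).range = (commHom hPZ a).range :=
      Subgroup.eq_of_le_of_card_ge inf_le_left (by rw [h3, hcardr a ha])
    have e2 : (commHom hPZ a).range ⊓ (commHom hPZ b).range = (commHom hPZ b).range :=
      Subgroup.eq_of_le_of_card_ge inf_le_right (by rw [h3, hcardr b hb])
    exact e1.symm.trans e2
  have hZne : Subgroup.center P ≠ ⊤ := by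
    intro h
    rw [h, Subgroup.index_top] at hZ
    have := hp.one_lt
    nlinarith
  obtain ⟨a, ha⟩ : ∃ a : P, a ∉ Subgroup.center P := by
    by_contra hcon
    push Not at hcon
    exact hZne (eq_top_iff.2 fun x _ => hcon x)
  have hCne : ∀ x : P, x ∉ Subgroup.center P → Subgroup.centralizer {x} ≠ ⊤ := by
    intro x hx h
    have := hidx x hx
    rw [h, Subgroup.index_top] at this
    exact hp.one_lt.ne this
  have hall : ∀ x y : P, ⁅y, x⁆ ∈ (commHom hPZ a).range := by
    intro x y
    by_cases hx : x ∈ Subgroup.center P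
    · have : ⁅y, x⁆ = 1 := by
        rw [commutatorElement_eq_one_iff_mul_comm]
        exact Subgroup.mem_center_iff.1 hx y
      rw [this]
      exact Subgroup.one_mem _
    · by_cases hax : ⁅a, x⁆ = 1
      · obtain ⟨c, hc1, hc2⟩ := exists_not_mem_of_ne_top (hCne a ha) (hCne x hx)
        have hca : ⁅a, c⁆ ≠ 1 := by
          intro h
          apply hc1
          rw [commutatorElement_eq_one_iff_mul_comm] at h
          rw [Subgroup.mem_centralizer_iff]
          intro z hz
          rw [Set.mem_singleton_iff] at hz
          rw [hz]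
          exact h
        have hcx : ⁅c, x⁆ ≠ 1 := by
          intro h
          apply hc2
          rw [commutatorElement_eq_one_iff_mul_comm] at h
          rw [Subgroup.mem_centralizer_iff]
          intro z hz
          rw [Set.mem_singleton_iff] at hz
          rw [hz]
          exact h.symm
        have hcZ : c ∉ Subgroup.center P := fun h => hc1 (Subgroup.center_le_centralizer _ h)
        rw [heq a c ha hcZ hca, heq c x hcZ hx hcx]
        exact ⟨y, rfl⟩
      · rw [heq a x ha hx hax]
        exact ⟨y, rfl⟩
  have hle : commutator P ≤ (commHom hPZ a).range := by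
    rw [commutator_eq_closure, Subgroup.closure_le]
    rintro _ ⟨y, x, rfl⟩
    exact hall x y
  have := le_antisymm hle (commHom_range_le hPZ a)
  rw [this, hcardr a ha]

/-- Nested subgroups of equal nonzero index are equal. -/
theorem eq_of_le_of_index_eq' {P : Type*} [Group P] {H K : Subgroup P} (h : H ≤ K)
    (hi : H.index = K.index) (h0 : K.index ≠ 0) : H = K := by
  have h1 := Subgroup.relIndex_mul_index h
  have h4 : H.relIndex K = 1 := by
    have : H.relIndex K * K.index = 1 * K.index := by rw [h1, one_mul, hi]
    exact Nat.eq_of_mul_eq_mul_right (Nat.pos_of_ne_zero h0) this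
  exact le_antisymm h (Subgroup.relIndex_eq_one.1 h4)

theorem mem_centralizer_singleton_iff' {P : Type*} [Group P] (x g : P) :
    g ∈ Subgroup.centralizer {x} ↔ g * x = x * g := by
  rw [Subgroup.mem_centralizer_iff]
  constructor
  · intro h
    exact (h x rfl).symm
  · intro h z hz
    rw [Set.mem_singleton_iff] at hz
    rw [hz]
    exact h.symm

end Cfsg.Agent.Lib.Helper80
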