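import Mathlib
import Cfsg.Agent.Lib.Helper50.SU4Q3Def
import Cfsg.Agent.Lib.Helper71.Asch5

/-! Project SU4 (helper50), piece Q3MON, sub-piece Q3GU: the Pauli group is unitary (`q = 3`). -/

set_option autoImplicit false

namespace Cfsg.Agent.Lib.Helper80.SU4Q3GU

open Matrix Cfsg.Geo Cfsg.Agent.Lib.Helper71.Asch Cfsg.Agent.Lib.Helper50.SU4Q3Def

variable {F : Type*} [Field F] [Fintype F] {q : ℕ}

/-- Q3GU: the Pauli group is unitary. -/
theorem Q3GU (hF : Fintype.card F = q ^ 2) (hq : q = 3) (ι : F) (hι : ι ^ 2 = -1) :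
    su4Pauli ι ≤ Cfsg.GU 4 F q := by
  subst hq
  unfold su4Pauli
  rw [Subgroup.closure_le]
  intro x hx
  show ∀ u v, Cfsg.hermForm 4 F 3 ((Units.coeHom _ x) *ᵥ u) ((Units.coeHom _ x) *ᵥ v)
    = Cfsg.hermForm 4 F 3 u v
  intro u v
  rw [Units.coeHom_apply]
  unfold Cfsg.hermForm
  have hι4 : ι ^ 4 = 1 := by
    have : ι ^ 4 = (ι ^ 2) ^ 2 := by ring
    rw [this, hι]; ring
  rcases hx with h | h | h | h | h
  · rw [h]
    simp only [Fin.sum_univ_four, Matrix.smul_mulVec, Matrix.one_mulVec, Pi.smul_apply,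
      smul_eq_mul]
    linear_combination (u 0 * v 0 ^ 3 + u 1 * v 1 ^ 3 + u 2 * v 2 ^ 3 + u 3 * v 3 ^ 3) * hι4
  · rw [h]
    simp [Fin.sum_univ_four, Matrix.mulVec_diagonal]
    ring
  · rw [h]
    simp [Fin.sum_univ_four, Matrix.mulVec_diagonal]
    ring
  · rw [h]
    simp [Fin.sum_univ_four, Matrix.mulVec, dotProduct]
    ring
  · rw [h]
    simp [Fin.sum_univ_four, Matrix.mulVec, dotProduct]
    ring

end Cfsg.Agent.Lib.Helper80.SU4Q3GU
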