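import Mathlib

/-!
Schur's lemma for complex representations, in the form used for central elements.
-/

set_option autoImplicit false

namespace Cfsg.Agent.Lib.Helper80

/-- Schur: an endomorphism commuting with an irreducible complex representation is a scalar. -/
theorem schur_scalar {G : Type*} [Group G] {V : Type*} [AddCommGroup V] [Module ℂ V]
    [FiniteDimensional ℂ V] (ρ : Representation ℂ G V) [ρ.IsIrreducible] (T : V →ₗ[ℂ] V)
    (hT : ∀ g : G, T ∘ₗ ρ g = ρ g ∘ₗ T) : ∃ c : ℂ, T = c • LinearMap.id := by
  let T' : Representation.IntertwiningMap ρ ρ := ⟨T, hT⟩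
  obtain ⟨c, hc⟩ :=
    (Representation.IsIrreducible.algebraMap_intertwiningMap_bijective_of_isAlgClosed (ρ := ρ)).2 T'
  refine ⟨c, ?_⟩
  have h1 := congrArg Representation.IntertwiningMap.toLinearMap hc
  rw [Representation.IntertwiningMap.algebraMap_apply] at h1
  rw [show T'.toLinearMap = T from rfl] at h1
  rw [← h1]
  rfl

/-- A central element acts by a scalar in an irreducible complex representation. -/
theorem central_scalar {G : Type*} [Group G] {V : Type*} [AddCommGroup V] [Module ℂ V]
    [FiniteDimensional ℂ V] (ρ : Representation ℂ G V) [ρ.IsIrreducible] (z : G)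
    (hz : z ∈ Subgroup.center G) : ∃ c : ℂ, ρ z = c • LinearMap.id := by
  apply schur_scalar ρ (ρ z)
  intro g
  have h : z * g = g * z := (Subgroup.mem_center_iff.1 hz g).symm
  calc ρ z ∘ₗ ρ g = ρ (z * g) := by rw [map_mul]; rfl
    _ = ρ (g * z) := by rw [h]
    _ = ρ g ∘ₗ ρ z := by rw [map_mul]; rfl

/-- The character of an irreducible complex representation at a central element, and at its translates. -/
theorem central_character {G : Type*} [Group G] {V : Type*} [AddCommGroup V] [Module ℂ V]
    [FiniteDimensional ℂ V] (ρ : Representation ℂ G V) [ρ.IsIrreducible] (z : G)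
    (hz : z ∈ Subgroup.center G) :
    ∃ c : ℂ, (∀ g : G, ρ.character (g * z) = c * ρ.character g) ∧
      ρ.character z = c * Module.finrank ℂ V := by
  obtain ⟨c, hc⟩ := central_scalar ρ z hz
  refine ⟨c, fun g => ?_, ?_⟩
  · unfold Representation.character
    rw [map_mul, hc, mul_smul_comm, map_smul, smul_eq_mul]
    congr 2
  · unfold Representation.character
    rw [hc, map_smul, smul_eq_mul]
    congr 1
    exact LinearMap.trace_id ℂ V

end Cfsg.Agent.Lib.Helper80
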